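import Groth.Agent.ExistEasy.PP.PullSec
import Groth.Agent.FComplLib.AffMod
import Groth.Agent.QCoh.LocFree
import Groth.Agent.QCoh.Qcqs
import Groth.Agent.Lib.InvEnd
import Groth.Agent.PicClLib.Basic
import Groth.Prelude.Def_KRR

/-!
# Points of projective bundles through kernels on sections
-/

set_option autoImplicit false
set_option linter.style.haveILetI false
set_option backward.isDefEq.respectTransparency false
set_option backward.isDefEq.respectTransparency.types false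

universe u

open CategoryTheory CategoryTheory.Limits AlgebraicGeometry TopologicalSpace

namespace Groth.Agent.TautSec

variable {X Y Z : Scheme.{u}}

theorem pullSec_top (f : X ⟶ Y) (G : Y.Modules) (x : Γ(G, ⊤)) :
    QCoh.pullSec f G (show (⊤ : X.Opens) ≤ f ⁻¹ᵁ ⊤ from le_top) x = FComplLib.pullTop f G x :=
  QCoh.map_id' (M := (Scheme.Modules.pullback f).obj G) _ _

theorem pullSec_zero (f : X ⟶ Y) {G : Y.Modules} {V : Y.Opens} {W : X.Opens} (hle : W ≤ f ⁻¹ᵁ V) :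
    QCoh.pullSec f G hle 0 = 0 :=
  (AddMonoidHom.mk' (QCoh.pullSec f G hle) (QCoh.pullSec_add f G hle)).map_zero

theorem isQCoh_line {L : X.Modules} (hL : FlatMod.IsFinLocFreeOfRank 1 L) : Coh.IsQCoh L :=
  QCoh.isQCoh_of_isFinLocFree fun x => let ⟨U, hx, e⟩ := hL x; ⟨U, 1, hx, e⟩

theorem invertible_of_line {L : X.Modules} (hL : FlatMod.IsFinLocFreeOfRank 1 L) : PicF.IsInvertible L := fun x =>
  let ⟨U, hx, ⟨e⟩⟩ := hL x
  ⟨U, hx, ⟨e ≪≫ coproductUniqueIso fun _ : Fin 1 => Coh.structureModule (U : Scheme.{u})⟩⟩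

theorem line_pullback (f : X ⟶ Y) {L : Y.Modules} (hL : FlatMod.IsFinLocFreeOfRank 1 L) :
    FlatMod.IsFinLocFreeOfRank 1 ((Scheme.Modules.pullback f).obj L) :=
  InvEnd.isFinLocFreeOfRank_one (PicClLib.isInvertible_pullback f (invertible_of_line hL))

variable {k : Type u} [Field k]

/-- A nonzero section of a line over a field generates. -/
theorem exists_smul_eq {L : (Spec (CommRingCat.of k)).Modules} (hL : FlatMod.IsFinLocFreeOfRank 1 L)
    {z : Γ(L, ⊤)} (hz : z ≠ 0) (y : Γ(L, ⊤)) : ∃ c : Γ(Spec (CommRingCat.of k), ⊤), y = c • z := by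
  obtain ⟨U, hU, t, ht⟩ := InvEnd.exists_frame_inv (invertible_of_line hL) default
  have hU' : U = ⊤ := top_le_iff.1 fun x _ => by rwa [Subsingleton.elim x default]
  subst hU'
  obtain ⟨c, rfl⟩ := (ht ⊤ le_rfl).2 z
  obtain ⟨d, rfl⟩ := (ht ⊤ le_rfl).2 y
  let φ : Γ(Spec (CommRingCat.of k), ⊤) ≃+* k := (Scheme.ΓSpecIso (CommRingCat.of k)).commRingCatIsoToRingEquiv
  have hc : φ c ≠ 0 := fun h => hz (by
    simp [φ.injective (h.trans (map_zero φ).symm)])
  refine ⟨d * φ.symm (φ c)⁻¹, ?_⟩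
  rw [smul_smul, mul_assoc]
  congr 1
  rw [show φ.symm (φ c)⁻¹ * c = 1 from φ.injective (by rw [map_mul, φ.apply_symm_apply, map_one, inv_mul_cancel₀ hc]),
    mul_one]

/-- An epimorphism out of a quasi-coherent module is determined by its kernel on sections. -/
theorem exists_iso_of_ker [IsAffine X] {M L L' : X.Modules} (hM : Coh.IsQCoh M) (hL : Coh.IsQCoh L)
    (hL' : Coh.IsQCoh L') (s : M ⟶ L) (s' : M ⟶ L') [Epi s] [Epi s']
    (h : ∀ z : Γ(M, ⊤), s.app ⊤ z = 0 ↔ s'.app ⊤ z = 0) : ∃ e : L ≅ L', s ≫ e.hom = s' := by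
  have key : ∀ {A B : X.Modules}, Coh.IsQCoh A → Coh.IsQCoh B → ∀ (a : M ⟶ A) (b : M ⟶ B) [Epi a],
      (∀ z : Γ(M, ⊤), a.app ⊤ z = 0 → b.app ⊤ z = 0) → ∃ e : A ⟶ B, a ≫ e = b := by
    intro A B hA hB a b _ hab
    refine ⟨Abelian.epiDesc a b ?_, Abelian.comp_epiDesc _ _ _⟩
    refine FComplLib.hom_ext_top (QCoh.isQCoh_kernel hM hA a) hB _ _ fun z => ?_
    refine (hab _ ?_).trans (by simp)
    exact (congrArg (fun ψ => Scheme.Modules.Hom.app ψ ⊤ z) (kernel.condition a)).trans (by simp)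
  obtain ⟨e, he⟩ := key hL hL' s s' fun z => (h z).1
  obtain ⟨e', he'⟩ := key hL' hL s' s fun z => (h z).2
  exact ⟨⟨e, e', by rw [← cancel_epi s, reassoc_of% he, he', Category.comp_id],
    by rw [← cancel_epi s', reassoc_of% he', he, Category.comp_id]⟩, he⟩

/-- An additive functional on sections, linear over the base field, gives a quotient. -/
theorem exists_hom_of_linear {R : CommRingCat.{u}} {M P : (Spec R).Modules} (hM : Coh.IsQCoh M)
    (l : moduleSpecΓFunctor.obj M ⟶ moduleSpecΓFunctor.obj P) :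
    ∃ s : M ⟶ P, moduleSpecΓFunctor.map s = l :=
  (QCoh.bijective_ΓMap hM P).2 l

section Bundle

variable {B P : Scheme.{u}} (π : P ⟶ B) {V : B.Modules} (O1 : P.Modules)
  (q : (Scheme.Modules.pullback π).obj V ⟶ O1) {T : Scheme.{u}}

/-- The value at a point of the projective bundle of a section of the bundle. -/
noncomputable def qv (a : T ⟶ P) {U : B.Opens} (hU : (⊤ : T.Opens) ≤ (a ≫ π) ⁻¹ᵁ U) (x : Γ(V, U)) :
    Γ((Scheme.Modules.pullback a).obj O1, ⊤) :=
  QCoh.pullSec a O1 (V := π ⁻¹ᵁ U) (show (⊤ : T.Opens) ≤ a ⁻¹ᵁ (π ⁻¹ᵁ U) from hU) (q.app (π ⁻¹ᵁ U) (QCoh.pullSec π V le_rfl x))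

/-- The quotient at a point. -/
noncomputable def quotAt (a : T ⟶ P) :
    (Scheme.Modules.pullback (a ≫ π)).obj V ⟶ (Scheme.Modules.pullback a).obj O1 :=
  (Scheme.Modules.pullbackComp a π).inv.app V ≫ (Scheme.Modules.pullback a).map q

theorem quotAt_pullSec (a : T ⟶ P) {U : B.Opens} (hU : (⊤ : T.Opens) ≤ (a ≫ π) ⁻¹ᵁ U) (x : Γ(V, U)) :
    (quotAt π O1 q a).app ⊤ (QCoh.pullSec (a ≫ π) V hU x) = qv π O1 q a hU x := by
  have h1 := ExistEasy.pullSec_comp a π V (U := π ⁻¹ᵁ U) (V := U) le_rfl (W := ⊤) (show (⊤ : T.Opens) ≤ a ⁻¹ᵁ (π ⁻¹ᵁ U) from hU) x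
  refine (congrArg (fun z => ((Scheme.Modules.pullback a).map q).app ⊤
    (((Scheme.Modules.pullbackComp a π).inv.app V).app ⊤ z)) h1.symm).trans ?_
  refine Eq.trans ?_ (ExistEasy.pullSec_natural a q (V := π ⁻¹ᵁ U) (show (⊤ : T.Opens) ≤ a ⁻¹ᵁ (π ⁻¹ᵁ U) from hU) _)
  exact congrArg (fun z => ((Scheme.Modules.pullback a).map q).app ⊤ z)
    (congrArg (fun φ => Scheme.Modules.Hom.app φ ⊤ (QCoh.pullSec a _ (show (⊤ : T.Opens) ≤ a ⁻¹ᵁ (π ⁻¹ᵁ U) from hU) (QCoh.pullSec π V (V := U) le_rfl x)))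
      ((Scheme.Modules.pullbackComp a π).hom_inv_id_app V))

theorem epi_quotAt [Epi q] (a : T ⟶ P) : Epi (quotAt π O1 q a) := by
  haveI : (Scheme.Modules.pullback a).PreservesEpimorphisms :=
    Functor.preservesEpimorphisms_of_adjunction (Scheme.Modules.pullbackPushforwardAdjunction a)
  exact epi_comp _ _

/-- Two points with the same image and the same kernels agree. -/
theorem point_eq_of_ker (hP : KRR.IsProjBundle π V O1 q) (hV : Coh.IsQCoh V) [IsAffine T] (a b : T ⟶ P)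
    {g : T ⟶ B} (ha : a ≫ π = g) (hb : b ≫ π = g) {U : B.Opens} (hU : IsAffineOpen U) (hgU : (⊤ : T.Opens) ≤ g ⁻¹ᵁ U)
    (hsurj : Function.Surjective (g.appLE U ⊤ hgU))
    (h : ∀ x : Γ(V, U), qv π O1 q a (U := U) (ha.symm ▸ hgU) x = 0 ↔ qv π O1 q b (U := U) (hb.symm ▸ hgU) x = 0) :
    a = b := by
  subst ha
  haveI := hP.epi
  haveI := epi_quotAt π O1 q a
  haveI := epi_quotAt π O1 q b
  let s' : (Scheme.Modules.pullback (a ≫ π)).obj V ⟶ (Scheme.Modules.pullback b).obj O1 :=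
    (Scheme.Modules.pullbackCongr hb).inv.app V ≫ quotAt π O1 q b
  haveI : Epi s' := epi_comp _ _
  have hgen : Function.Surjective (QCoh.pullSec (a ≫ π) V hgU) :=
    ExistEasy.surjective_pullSec _ hV (isAffineOpen_top T) hU hgU fun c' => by
      obtain ⟨c, rfl⟩ := hsurj c'
      exact ⟨c, fun y => rfl⟩
  have hs' : ∀ x, s'.app ⊤ (QCoh.pullSec (a ≫ π) V hgU x) = qv π O1 q b (U := U) (hb.symm ▸ hgU) x := fun x => by
    rw [← quotAt_pullSec π O1 q b]
    refine congrArg (fun z => (quotAt π O1 q b).app ⊤ z) ?_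
    rw [← ExistEasy.pullSec_congr hb V (hle := hb.symm ▸ hgU) x]
    exact congrArg (fun φ => Scheme.Modules.Hom.app φ ⊤ (QCoh.pullSec (b ≫ π) V (hb.symm ▸ hgU) x))
      ((Scheme.Modules.pullbackCongr hb).hom_inv_id_app V)
  obtain ⟨e, he⟩ := exists_iso_of_ker (QCoh.isQCoh_pullback (a ≫ π) hV)
    (isQCoh_line (line_pullback a hP.invertible)) (isQCoh_line (line_pullback b hP.invertible))
    (quotAt π O1 q a) s' fun z => by
      obtain ⟨x, rfl⟩ := hgen z
      rw [quotAt_pullSec, hs']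
      exact h x
  refine (hP.univ T (a ≫ π) _ (line_pullback b hP.invertible) s' inferInstance).unique ⟨rfl, e, ?_⟩
    ⟨hb, Iso.refl _, ?_⟩
  · rw [← he]
    simp [quotAt, Scheme.Modules.pullbackCongr]
  · simp [s', quotAt]

end Bundle

end Groth.Agent.TautSec
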