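import Groth.Agent.TautSec.Main

/-!
# Points of lower secant varieties
-/

set_option autoImplicit false
set_option linter.style.haveILetI false
set_option backward.isDefEq.respectTransparency false
set_option backward.isDefEq.respectTransparency.types false

universe u

open CategoryTheory CategoryTheory.Limits AlgebraicGeometry TopologicalSpace

namespace Groth.Agent.TautSec

variable {X : Scheme.{u}} {k : Type u} [Field k] {f : X ⟶ Spec (CommRingCat.of k)} {L : X.Modules}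

/-- A functional on a subscheme of degree one comes from a point. -/
theorem exists_point_of_fun (hL : FlatMod.IsFinLocFreeOfRank 1 L) (E : Cl f)
    (μ : Γ((Scheme.Modules.pullback E.t).obj L, ⊤) →+ k) (hμ : IsFun E μ) (hE : E.deg ≤ 1) :
    ∃ x : Spec (CommRingCat.of k) ⟶ X, x ≫ f = 𝟙 _ ∧
      ∀ σ, μ (FComplLib.pullTop E.t L σ) = 0 ↔ FComplLib.pullTop x L σ = 0 := by
  have h1 : E.deg = 1 := by have := deg_ne_zero hμ; omega
  obtain ⟨⟨hfin, hfl, hfp⟩, hrk⟩ := (isFinLocFreeOfDeg_iff (E.t ≫ f) 1).2 h1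
  haveI := hfl
  haveI : IsIso (E.t ≫ f) := (Scheme.Hom.isIso_iff_finrank_eq (E.t ≫ f)).2 (funext fun y => hrk y)
  let x : Spec (CommRingCat.of k) ⟶ X := inv (E.t ≫ f) ≫ E.t
  have hx : x ≫ f = 𝟙 _ := by simp [x]
  have hj : (E.t ≫ f) ≫ x = E.t := by simp [x]
  haveI : IsClosedImmersion (E.t ≫ f) := inferInstance
  let ν := μ.comp (resSec L (E.t ≫ f) hj ⊤ le_top)
  refine ⟨x, hx, fun σ => ?_⟩
  have hνσ : ν (FComplLib.pullTop x L σ) = μ (FComplLib.pullTop E.t L σ) := congrArg μ (resSec_pullTop L (E.t ≫ f) hj σ)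
  rw [← hνσ]
  refine ⟨fun h => ?_, fun h => by rw [h, map_zero]⟩
  by_contra hne
  obtain ⟨w, hw⟩ := hμ.2
  obtain ⟨y, rfl⟩ := resSec_surjective L (E.t ≫ f) hj ⊤ le_top (isQCoh_line hL) (isAffineOpen_top _)
    (by rw [appLE_top]; exact (IsClosedImmersion.isAffine_surjective_of_isAffine (E.t ≫ f)).2) w
  obtain ⟨c, rfl⟩ := exists_smul_eq (line_pullback x hL) hne y
  refine hw ?_
  let φ : Γ(Spec (CommRingCat.of k), ⊤) ≃+* k := (Scheme.ΓSpecIso (CommRingCat.of k)).commRingCatIsoToRingEquiv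
  rw [resSec_smul, show (E.t ≫ f).appLE ⊤ ⊤ le_top c = cst (E.t ≫ f) ⊤ (φ c) from
    congrArg (fun z => (E.t ≫ f).appLE ⊤ ⊤ le_top z) (φ.symm_apply_apply c).symm, hμ.1]
  rw [show μ (resSec L (E.t ≫ f) hj ⊤ le_top (FComplLib.pullTop x L σ)) = 0 from h, mul_zero]

variable {H : Over (Spec (CommRingCat.of k))} {n : ℕ} (Z : HilbD.Obj f n H)
  {P : Scheme.{u}} (π : P ⟶ Spec (CommRingCat.of k)) (O1 : P.Modules)
  (qP : (Scheme.Modules.pullback π).obj ((Scheme.Modules.pushforward f).obj L) ⟶ O1)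
  {PE : Scheme.{u}} (πE : PE ⟶ H.left) (OE : PE.Modules)
  (qE : (Scheme.Modules.pullback πE).obj (TautSh.taut f H Z.1 L) ⟶ OE) (h : PE ⟶ P)
  (hh : TautSh.IsMapOfQuot π ((Scheme.Modules.pushforward f).obj L) O1 qP (πE ≫ H.hom) OE
    (TautSh.secantQuot f H Z.1 L πE OE qE) h)
  (hL : Coh.IsQCoh L) (hPE : KRR.IsProjBundle πE (TautSh.taut f H Z.1 L) OE qE)

include hh hL hPE in
/-- A functional on a small subscheme is realised by a point of the lower secant bundle. -/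
theorem exists_lower [IsProper f] [IsAlgClosed k] [Infinite X] (hU : HilbD.IsUniversal f n H Z) (E : Cl f)
    (μ : Γ((Scheme.Modules.pullback E.t).obj L, ⊤) →+ k) (hμ : IsFun E μ) (hE : E.deg ≤ n) :
    ∃ c : Spec (CommRingCat.of k) ⟶ PE, c ≫ πE ≫ H.hom = 𝟙 _ ∧
      ∀ σ, μ (FComplLib.pullTop E.t L σ) = 0 ↔ Van π O1 qP (c ≫ h) σ := by
  obtain ⟨D, j, hj, hD⟩ := E.exists_deg_eq (n - E.deg)
  let pr := pullback.fst f (pt k).hom
  let J := (D.t ≫ inv pr).ker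
  let e : D.A ⟶ J.subscheme :=
    IsClosedImmersion.lift J.subschemeι (D.t ≫ inv pr) (Scheme.IdealSheafData.ker_subschemeι J).le
  have he : e ≫ J.subschemeι = D.t ≫ inv pr := IsClosedImmersion.lift_fac _ _ _
  haveI : IsIso e := IsClosedImmersion.isIso_of_ker_eq _ _ _ he (Scheme.IdealSheafData.ker_subschemeι J).symm
  have hJ : Mor2.IsFinLocFreeOfDeg n (J.subschemeι ≫ PicF.XTproj f (pt k)) := by
    have hproj : PicF.XTproj f (pt k) = pr ≫ f := by
      simp [pr, pullback.condition]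
      rfl
    have hcomp : J.subschemeι ≫ PicF.XTproj f (pt k) = inv e ≫ D.t ≫ f := by
      rw [IsIso.eq_inv_comp, ← Category.assoc, he, hproj, Category.assoc, IsIso.inv_hom_id_assoc]
    obtain ⟨⟨h1, h2, h3⟩, h4⟩ := (isFinLocFreeOfDeg_iff (D.t ≫ f) n).2 (show D.deg = n by omega)
    rw [hcomp]
    exact ⟨⟨inferInstance, inferInstance, inferInstance⟩, fun y => by
      rw [Scheme.Hom.finrank_comp_left_of_isIso]; exact h4 y⟩
  obtain ⟨g, hg, -⟩ := hU (pt k) ⟨J, hJ⟩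
  obtain ⟨ξ, hξ, rfl⟩ : ∃ (ξ : Spec (CommRingCat.of k) ⟶ H.left) (hξ : ξ ≫ H.hom = 𝟙 _), ptHom ξ hξ = g :=
    ⟨g.left, Over.w g, rfl⟩
  obtain ⟨C, jC, hd, hCt, hC, hker⟩ := exists_fibre Z ξ hξ
  let i : D.A ⟶ C.A := IsClosedImmersion.lift (C.t ≫ inv pr) (D.t ≫ inv pr) (hker.trans hg).le
  have hi : i ≫ C.t = D.t := by
    rw [← cancel_mono (inv pr), Category.assoc]
    exact IsClosedImmersion.lift_fac _ _ _
  obtain ⟨U, hUa, hxU, -⟩ := exists_isAffineOpen_mem_and_subset (X := H.left) (x := ξ default) (U := ⊤) trivial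
  have hξU : (⊤ : (Spec (CommRingCat.of k)).Opens) ≤ ξ ⁻¹ᵁ U := fun x _ => by
    rw [Subsingleton.elim x default]; exact hxU
  obtain ⟨hle, hsξ, hsC, -⟩ := fibre_sections Z ξ hξ C jC hC hUa hξU
  have hC' : IsFun C ((μ.comp (resSec L j hj ⊤ le_top)).comp (resSec L i hi ⊤ le_top)) :=
    isFun_res i hi hL (isFun_res j hj hL hμ)
  let p := TautSh.famToH f H Z.1
  haveI : IsFinite p := Z.2.1.1
  let ν : Γ(TautSh.taut f H Z.1 L, U) →+ k :=
    ((μ.comp (resSec L j hj ⊤ le_top)).comp (resSec L i hi ⊤ le_top)).comp (fibRes Z C jC hCt U hle)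
  have hsmul : ∀ (r : Γ(H.left, U)) (y : Γ(TautSh.taut f H Z.1 L, U)), fibRes Z C jC hCt U hle (r • y) =
      (C.t ≫ f).appLE ⊤ ⊤ le_top (ξ.appLE U ⊤ hξU r) • fibRes Z C jC hCt U hle y := by
    intro r y
    refine (resSec_smul L jC hCt (p ⁻¹ᵁ U) hle (p.app U r) y).trans ?_
    congr 1
    rw [Scheme.Hom.app_eq_appLE, ← CommRingCat.comp_apply, Scheme.Hom.appLE_comp_appLE, ← CommRingCat.comp_apply,
      Scheme.Hom.appLE_comp_appLE]
    have happ : ∀ {q q' : C.A ⟶ H.left} (_ : q = q') (e1 : (⊤ : C.A.Opens) ≤ q ⁻¹ᵁ U) (e2 : (⊤ : C.A.Opens) ≤ q' ⁻¹ᵁ U),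
        q.appLE U ⊤ e1 r = q'.appLE U ⊤ e2 r := by
      intro q q' hq e1 e2
      subst hq
      rfl
    exact happ hC.w _ _
  have hνk : ∀ r ∈ RingHom.ker (ξ.appLE U ⊤ hξU).hom, ∀ y, ν (r • y) = 0 := fun r hr y => by
    show ((μ.comp (resSec L j hj ⊤ le_top)).comp (resSec L i hi ⊤ le_top)) (fibRes Z C jC hCt U hle (r • y)) = 0
    rw [hsmul, show ξ.appLE U ⊤ hξU r = 0 from hr, map_zero, zero_smul, map_zero]
  have hνc : ∀ (c : k) y, ν (cst H.hom U c • y) = c * ν y := fun c y => by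
    show ((μ.comp (resSec L j hj ⊤ le_top)).comp (resSec L i hi ⊤ le_top)) (fibRes Z C jC hCt U hle (_ • y)) = _
    rw [hsmul, cst_comp, hξ, cst_comp, Category.comp_id]
    exact hC'.1 c _
  have hν1 : ∃ y, ν y ≠ 0 := by
    obtain ⟨w, hw⟩ := hC'.2
    obtain ⟨y, rfl⟩ := resSec_surjective L jC hCt (p ⁻¹ᵁ U) hle hL (hUa.preimage p) hsC w
    exact ⟨y, hw⟩
  obtain ⟨c, hc, hcν⟩ := exists_point πE OE qE hPE (isQCoh_taut Z hL) H.hom ξ hξ hUa hξU hsξ ν hνc hνk hν1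
  refine ⟨c, by rw [← Category.assoc, hc, hξ], fun σ => ?_⟩
  rw [van_secant Z π O1 qP πE OE qE h hh c (hc.symm ▸ hξU), hcν]
  show _ ↔ μ (resSec L j hj ⊤ le_top (resSec L i hi ⊤ le_top (fibRes Z C jC hCt U hle _))) = 0
  rw [fibRes_eval, resSec_pullTop, resSec_pullTop]

end Groth.Agent.TautSec
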