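import Groth.Agent.TautSec.Sect

/-!
# Functionals on sections over affine schemes
-/

set_option autoImplicit false
set_option linter.style.haveILetI false
set_option backward.isDefEq.respectTransparency false
set_option backward.isDefEq.respectTransparency.types false

universe u

open CategoryTheory CategoryTheory.Limits AlgebraicGeometry TopologicalSpace

namespace Groth.Agent.TautSec

variable {X W W' : Scheme.{u}} {k : Type u} [Field k]

/-- The constants. -/
noncomputable def cst (t : W ⟶ Spec (CommRingCat.of k)) (U : W.Opens) : k →+* Γ(W, U) :=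
  ((Scheme.ΓSpecIso (CommRingCat.of k)).inv ≫ t.appLE ⊤ U (by simp)).hom

theorem cst_comp (φ : W' ⟶ W) (t : W ⟶ Spec (CommRingCat.of k)) {U : W.Opens} {U' : W'.Opens}
    (hle : U' ≤ φ ⁻¹ᵁ U) (c : k) : φ.appLE U U' hle (cst t U c) = cst (φ ≫ t) U' c := by
  show (t.appLE ⊤ U _ ≫ φ.appLE U U' hle).hom _ = _
  rw [Scheme.Hom.appLE_comp_appLE]
  rfl

/-- Sections of the inverse image along a closed immersion of affines. -/
theorem pullSec_closed (φ : W' ⟶ W) {M : W.Modules} (hM : Coh.IsQCoh M) {U : W.Opens} (hU : IsAffineOpen U)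
    {U' : W'.Opens} (hU' : IsAffineOpen U') (hle : U' ≤ φ ⁻¹ᵁ U) (hs : Function.Surjective (φ.appLE U U' hle)) :
    Function.Surjective (QCoh.pullSec φ M hle) ∧ ∀ x, QCoh.pullSec φ M hle x = 0 →
      x ∈ (RingHom.ker (φ.appLE U U' hle).hom • ⊤ : Submodule Γ(W, U) Γ(M, U)) := by
  refine ⟨ExistEasy.surjective_pullSec φ hM hU' hU hle fun c' => ?_, fun x hx => ?_⟩
  · obtain ⟨c, rfl⟩ := hs c'
    exact ⟨c, fun y => rfl⟩
  letI : Algebra Γ(W, U) Γ(W', U') := (φ.appLE U U' hle).hom.toAlgebra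
  letI : Module Γ(W, U) Γ((Scheme.Modules.pullback φ).obj M, U') :=
    Module.compHom _ (φ.appLE U U' hle).hom
  haveI : IsScalarTower Γ(W, U) Γ(W', U') Γ((Scheme.Modules.pullback φ).obj M, U') :=
    ⟨fun a b c => mul_smul ((φ.appLE U U' hle).hom a) b c⟩
  obtain ⟨l, hl, hb⟩ := ExistEasy.exists_pullSec_baseChange φ hM hU' hU hle
  let K := RingHom.ker (φ.appLE U U' hle).hom
  let Q := Γ(M, U) ⧸ (K • ⊤ : Submodule Γ(W, U) Γ(M, U))
  let e : Γ(W, U) ⧸ K ≃+* Γ(W', U') := RingHom.quotientKerEquivOfSurjective hs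
  have hT : Module.IsTorsionBySet Γ(W, U) Q (K : Set Γ(W, U)) := fun y q => by
    obtain ⟨y, rfl⟩ := Submodule.Quotient.mk_surjective _ y
    rw [← Submodule.Quotient.mk_smul, Submodule.Quotient.mk_eq_zero]
    exact Submodule.smul_mem_smul q.2 Submodule.mem_top
  letI : Module (Γ(W, U) ⧸ K) Q := hT.module
  letI : Module Γ(W', U') Q := Module.compHom Q e.symm.toRingHom
  haveI : IsScalarTower Γ(W, U) Γ(W', U') Q := ⟨fun c c' y => by
    show e.symm (c • c') • y = c • (e.symm c' • y)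
    rw [Algebra.smul_def, map_mul, mul_smul, show e.symm (algebraMap Γ(W, U) Γ(W', U') c) = Ideal.Quotient.mk K c from
      e.symm_apply_eq.2 rfl]
    rfl⟩
  have h1 := hb.lift_eq (Submodule.mkQ (K • ⊤ : Submodule Γ(W, U) Γ(M, U))) x
  rw [hl, hx, map_zero] at h1
  exact (Submodule.Quotient.mk_eq_zero _).1 h1.symm

/-- A functional killed by the kernel factors through the inverse image. -/
theorem factor (φ : W' ⟶ W) (t : W ⟶ Spec (CommRingCat.of k)) {M : W.Modules} (hM : Coh.IsQCoh M) {U : W.Opens}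
    (hU : IsAffineOpen U) {U' : W'.Opens} (hU' : IsAffineOpen U') (hle : U' ≤ φ ⁻¹ᵁ U)
    (hs : Function.Surjective (φ.appLE U U' hle)) (μ : Γ(M, U) →+ k)
    (hμc : ∀ (c : k) x, μ (cst t U c • x) = c * μ x)
    (hμ : ∀ r ∈ RingHom.ker (φ.appLE U U' hle).hom, ∀ x, μ (r • x) = 0) :
    ∃ μ' : Γ((Scheme.Modules.pullback φ).obj M, U') →+ k, (∀ x, μ' (QCoh.pullSec φ M hle x) = μ x) ∧
      ∀ (c : k) x, μ' (cst (φ ≫ t) U' c • x) = c * μ' x := by
  obtain ⟨hsurj, hker⟩ := pullSec_closed φ hM hU hU' hle hs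
  have h0 : ∀ x, QCoh.pullSec φ M hle x = 0 → μ x = 0 := fun x hx => by
    refine Submodule.smul_induction_on (hker x hx) (fun r hr y _ => hμ r hr y) fun a b ha hb => ?_
    rw [map_add, ha, hb, add_zero]
  let p : Γ(M, U) →+ Γ((Scheme.Modules.pullback φ).obj M, U') :=
    AddMonoidHom.mk' (QCoh.pullSec φ M hle) (QCoh.pullSec_add φ M hle)
  let μ' : Γ((Scheme.Modules.pullback φ).obj M, U') →+ k :=
    AddMonoidHom.liftOfSurjective p hsurj ⟨μ, fun x hx => h0 x hx⟩
  have hμ' : ∀ x, μ' (p x) = μ x := fun x => AddMonoidHom.liftOfRightInverse_comp_apply p _ _ _ x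
  refine ⟨μ', hμ', fun c z => ?_⟩
  obtain ⟨x, rfl⟩ := hsurj z
  rw [← cst_comp φ t hle, ← QCoh.pullSec_smul]
  exact (hμ' _).trans ((hμc c x).trans (congrArg (c * ·) (hμ' x).symm))

variable {B P : Scheme.{u}}

theorem isInvertible_structureModule (Y : Scheme.{u}) : PicF.IsInvertible (Coh.structureModule Y) := fun y =>
  ⟨⊤, trivial, ⟨(Scheme.Modules.restrictFunctorIsoPullback (⊤ : Y.Opens).ι).app _ ≪≫
    (PicClLib.nonempty_pullback_structureModule (⊤ : Y.Opens).ι).some⟩⟩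

/-- A functional at a rational point gives a point of the projective bundle. -/
theorem exists_point (π : P ⟶ B) {V : B.Modules} (O1 : P.Modules) (q : (Scheme.Modules.pullback π).obj V ⟶ O1)
    (hP : KRR.IsProjBundle π V O1 q) (hV : Coh.IsQCoh V) (tB : B ⟶ Spec (CommRingCat.of k))
    (g : Spec (CommRingCat.of k) ⟶ B) (hg : g ≫ tB = 𝟙 _) {U : B.Opens} (hU : IsAffineOpen U)
    (hgU : (⊤ : (Spec (CommRingCat.of k)).Opens) ≤ g ⁻¹ᵁ U) (hsurj : Function.Surjective (g.appLE U ⊤ hgU))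
    (μ : Γ(V, U) →+ k) (hμc : ∀ (c : k) x, μ (cst tB U c • x) = c * μ x)
    (hμ : ∀ r ∈ RingHom.ker (g.appLE U ⊤ hgU).hom, ∀ x, μ (r • x) = 0) (hμ1 : ∃ x, μ x ≠ 0) :
    ∃ (c : Spec (CommRingCat.of k) ⟶ P) (hc : c ≫ π = g), ∀ x,
      qv π O1 q c (U := U) (hc.symm ▸ hgU) x = 0 ↔ μ x = 0 := by
  let T := Spec (CommRingCat.of k)
  obtain ⟨μ', hμ', hμ'c⟩ := factor g tB hV hU (isAffineOpen_top T) hgU hsurj μ hμc hμ
  have hcst : ∀ r : k, cst (g ≫ tB) (⊤ : T.Opens) r = (Scheme.ΓSpecIso (CommRingCat.of k)).inv r := fun r => by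
    rw [hg]
    simp [cst, Scheme.Hom.appLE]
  let φ : Γ(T, ⊤) ≃+* k := (Scheme.ΓSpecIso (CommRingCat.of k)).commRingCatIsoToRingEquiv
  let M : (Spec (CommRingCat.of k)).Modules := (Scheme.Modules.pullback g).obj V
  let O : (Spec (CommRingCat.of k)).Modules := Coh.structureModule (Spec (CommRingCat.of k))
  let ΓF := moduleSpecΓFunctor (R := CommRingCat.of k)
  let l : ΓF.obj M ⟶ ΓF.obj O :=
    @ModuleCat.ofHom _ _ (ΓF.obj M) (ΓF.obj O) _ (ΓF.obj M).isModule _ (ΓF.obj O).isModule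
      { toFun := fun z => (show ↑(ΓF.obj O) from φ.symm (μ' (show Γ(M, ⊤) from z)))
        map_add' := fun a b => (congrArg φ.symm (map_add μ' (show Γ(M, ⊤) from a) (show Γ(M, ⊤) from b))).trans (map_add φ.symm _ _)
        map_smul' := fun r z => by
          show φ.symm (μ' ((Scheme.ΓSpecIso (CommRingCat.of k)).inv r • (show Γ(M, ⊤) from z))) =
            (Scheme.ΓSpecIso (CommRingCat.of k)).inv r * φ.symm (μ' (show Γ(M, ⊤) from z))
          rw [← hcst, hμ'c, map_mul, hcst]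
          rfl }
  obtain ⟨s, hs⟩ := exists_hom_of_linear (QCoh.isQCoh_pullback g hV) l
  have hsapp : ∀ z : Γ(M, ⊤), s.app ⊤ z = (show Γ(O, ⊤) from φ.symm (μ' z)) := fun z =>
    ConcreteCategory.congr_hom hs z
  have hO : Coh.IsQCoh O := isQCoh_line (InvEnd.isFinLocFreeOfRank_one (isInvertible_structureModule T))
  haveI : Epi s := by
    refine Preadditive.epi_of_cokernel_zero ?_
    refine FComplLib.hom_ext_top hO (QCoh.isQCoh_cokernel (QCoh.isQCoh_pullback g hV) hO s) _ _ fun y => ?_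
    obtain ⟨x₀, hx₀⟩ := hμ1
    obtain ⟨w, hw⟩ : ∃ w : Γ(M, ⊤), s.app ⊤ w = y := by
      refine ⟨cst (g ≫ tB) (⊤ : T.Opens) (φ (show Γ(T, ⊤) from y) * (μ x₀)⁻¹) • QCoh.pullSec g V hgU x₀, ?_⟩
      rw [hsapp, hμ'c, hμ', mul_assoc, inv_mul_cancel₀ hx₀, mul_one]
      exact φ.symm_apply_apply _
    rw [← hw]
    exact (congrArg (fun ψ => Scheme.Modules.Hom.app ψ ⊤ w) (cokernel.condition s)).trans (by simp)
  obtain ⟨c, ⟨hc, e, he⟩, -⟩ := hP.univ T g O (InvEnd.isFinLocFreeOfRank_one (isInvertible_structureModule T)) s inferInstance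
  refine ⟨c, hc, fun x => ?_⟩
  subst hc
  have h1 : e.hom.app ⊤ (qv π O1 q c (U := U) hgU x) = s.app ⊤ (QCoh.pullSec (c ≫ π) V hgU x) := by
    rw [← quotAt_pullSec π O1 q c hgU x, ← he]
    rfl
  rw [hsapp, hμ'] at h1
  constructor
  · intro h
    rw [h, map_zero] at h1
    exact φ.symm.injective ((show φ.symm (μ x) = 0 from h1.symm).trans (map_zero _).symm)
  · intro h
    rw [h, map_zero] at h1
    have h2 := congrArg (fun ψ => Scheme.Modules.Hom.app ψ ⊤ (qv π O1 q c (U := U) hgU x)) e.hom_inv_id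
    refine h2.symm.trans ?_
    show e.inv.app ⊤ (e.hom.app ⊤ _) = 0
    rw [h1]
    exact map_zero _

end Groth.Agent.TautSec
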