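import Groth.Agent.TautSec.Affine
import Groth.Agent.HilbDLib.AffDict
import Mathlib.AlgebraicGeometry.AlgClosed.Basic
import Mathlib.AlgebraicGeometry.ZariskisMainTheorem

/-!
# Finite closed subschemes over a field
-/

set_option autoImplicit false
set_option linter.style.haveILetI false
set_option backward.isDefEq.respectTransparency false
set_option backward.isDefEq.respectTransparency.types false

universe u

open CategoryTheory CategoryTheory.Limits AlgebraicGeometry TopologicalSpace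

namespace Groth.Agent.TautSec

variable {X : Scheme.{u}} {k : Type u} [Field k]

theorem appLE_top {A B : Scheme.{u}} (j : A ⟶ B) (e : (⊤ : A.Opens) ≤ j ⁻¹ᵁ ⊤) : j.appLE ⊤ ⊤ e = j.appTop :=
  Scheme.Hom.appLE_eq_app j

/-- The dimension of the ring of functions. -/
noncomputable def deg {A : Scheme.{u}} (s : A ⟶ Spec (CommRingCat.of k)) : ℕ :=
  letI := (cst s ⊤).toAlgebra
  Module.finrank k Γ(A, ⊤)

theorem cst_fac {A : Scheme.{u}} [IsAffine A] (s : A ⟶ Spec (CommRingCat.of k)) :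
    A.isoSpec.hom ≫ Spec.map (CommRingCat.ofHom (cst s ⊤)) = s := by
  have h1 : CommRingCat.ofHom (cst s ⊤) = (Scheme.ΓSpecIso (CommRingCat.of k)).inv ≫ s.appTop := by
    ext c
    show (s.appLE ⊤ ⊤ _).hom _ = s.appTop.hom _
    rw [appLE_top]
  rw [h1, Spec.map_comp, Scheme.isoSpec_hom, ← Category.assoc, ← Scheme.toSpecΓ_naturality]
  simp

theorem finite_cst {A : Scheme.{u}} (s : A ⟶ Spec (CommRingCat.of k)) [IsFinite s] :
    (cst s (⊤ : A.Opens)).Finite := by
  haveI : IsAffine A := isAffine_of_isAffineHom s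
  refine (IsFinite.SpecMap_iff (CommRingCat.ofHom (cst s ⊤))).1 ?_
  rw [show Spec.map (CommRingCat.ofHom (cst s ⊤)) = A.isoSpec.inv ≫ s by
    rw [Iso.eq_inv_comp, cst_fac]]
  infer_instance

theorem isFinLocFreeOfDeg_iff {A : Scheme.{u}} (s : A ⟶ Spec (CommRingCat.of k)) [IsFinite s] (d : ℕ) :
    Mor2.IsFinLocFreeOfDeg d s ↔ deg s = d := by
  haveI : IsAffine A := isAffine_of_isAffineHom s
  letI := (cst s (⊤ : A.Opens)).toAlgebra
  haveI : Module.Finite k Γ(A, ⊤) := finite_cst s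
  haveI : Flat (Spec.map (CommRingCat.ofHom (algebraMap k Γ(A, ⊤)))) :=
    Flat.SpecMap_iff.2 (RingHom.flat_algebraMap_iff.2 inferInstance)
  haveI : IsFinite (Spec.map (CommRingCat.ofHom (algebraMap k Γ(A, ⊤)))) :=
    (IsFinite.SpecMap_iff _).2 (finite_cst s)
  have key : ∀ p : PrimeSpectrum k, Module.rankAtStalk (R := k) Γ(A, ⊤) p = deg s := fun p => by
    rw [Module.rankAtStalk_eq_finrank_of_free]; rfl
  have hfp : LocallyOfFinitePresentation s := LocallyOfFinitePresentation.iff_locallyOfFiniteType.2 inferInstance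
  have hflat : Flat s := by
    rw [← cst_fac s]
    exact inferInstanceAs (Flat (A.isoSpec.hom ≫ Spec.map (CommRingCat.ofHom (algebraMap k Γ(A, ⊤)))))
  have hrank : ∀ y, s.finrank y = deg s := fun y => by
    conv_lhs => rw [← cst_fac s, Scheme.Hom.finrank_comp_left_of_isIso]
    rw [← key y]
    exact Scheme.Hom.finrank_SpecMap_algebraMap k Γ(A, ⊤) y
  exact ⟨fun h => ((hrank (IsLocalRing.closedPoint k)).symm.trans (h.2 _)),
    fun h => ⟨⟨‹_›, hflat, hfp⟩, fun y => (hrank y).trans h⟩⟩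

/-- A closed subscheme finite over the field. -/
structure Cl (f : X ⟶ Spec (CommRingCat.of k)) where
  /-- The scheme. -/
  A : Scheme.{u}
  /-- The inclusion. -/
  t : A ⟶ X
  [closed : IsClosedImmersion t]
  [fin : IsFinite (t ≫ f)]

attribute [instance] Cl.closed Cl.fin

variable {f : X ⟶ Spec (CommRingCat.of k)}

namespace Cl

/-- The degree. -/
noncomputable def deg (C : Cl f) : ℕ := TautSec.deg (C.t ≫ f)

instance (C : Cl f) : IsAffine C.A := isAffine_of_isAffineHom (C.t ≫ f)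

theorem isClosedImmersion_hom {C D : Cl f} (j : C.A ⟶ D.A) (hj : j ≫ D.t = C.t) : IsClosedImmersion j := by
  haveI : IsClosedImmersion (j ≫ D.t) := hj ▸ inferInstance
  exact IsClosedImmersion.of_comp j D.t

theorem surjective_hom {C D : Cl f} (j : C.A ⟶ D.A) (hj : j ≫ D.t = C.t) :
    Function.Surjective (j.appLE ⊤ ⊤ le_top) := by
  haveI := isClosedImmersion_hom j hj
  rw [appLE_top]
  exact (IsClosedImmersion.isAffine_surjective_of_isAffine j).2

theorem deg_le_of_hom {C D : Cl f} (j : C.A ⟶ D.A) (hj : j ≫ D.t = C.t) :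
    C.deg ≤ D.deg ∧ (C.deg = D.deg → IsIso j) := by
  letI := (cst (D.t ≫ f) (⊤ : D.A.Opens)).toAlgebra
  letI := (cst (C.t ≫ f) (⊤ : C.A.Opens)).toAlgebra
  haveI : Module.Finite k Γ(D.A, ⊤) := finite_cst (D.t ≫ f)
  haveI : Module.Finite k Γ(C.A, ⊤) := finite_cst (C.t ≫ f)
  let φ : Γ(D.A, ⊤) →ₐ[k] Γ(C.A, ⊤) :=
    ⟨(j.appLE ⊤ ⊤ le_top).hom, fun c => (cst_comp j (D.t ≫ f) le_top c).trans (by rw [← Category.assoc, hj]; rfl)⟩
  have hs : Function.Surjective φ.toLinearMap := surjective_hom j hj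
  refine ⟨LinearMap.finrank_le_finrank_of_surjective (f := φ.toLinearMap) hs, fun h => ?_⟩
  have hi := (LinearMap.injective_iff_surjective_of_finrank_eq_finrank (f := φ.toLinearMap) h.symm).2 hs
  haveI := isClosedImmersion_hom j hj
  refine IsClosedImmersion.isIso_of_injective_of_isAffine ?_
  rwa [← appLE_top j le_top]

theorem range_subset_of_hom {C D : Cl f} (j : C.A ⟶ D.A) (hj : j ≫ D.t = C.t) :
    Set.range C.t ⊆ Set.range D.t := by
  rintro _ ⟨a, rfl⟩
  exact ⟨j a, by rw [← hj]; rfl⟩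

/-- The finite range. -/
theorem finite_range (C : Cl f) : (Set.range C.t).Finite := by
  have h : ((C.t ≫ f) ⁻¹' Set.univ).Finite := Scheme.Hom.finite_preimage _ (Set.toFinite _)
  have : Finite C.A := Set.finite_univ_iff.1 (by simpa using h)
  exact Set.finite_range _

/-- The union of two finite closed subschemes. -/
theorem exists_union [IsProper f] (C D : Cl f) :
    ∃ (W : Cl f) (jC : C.A ⟶ W.A) (jD : D.A ⟶ W.A), jC ≫ W.t = C.t ∧ jD ≫ W.t = D.t ∧
      RingHom.ker (jC.appLE ⊤ ⊤ le_top).hom ⊓ RingHom.ker (jD.appLE ⊤ ⊤ le_top).hom = ⊥ ∧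
      W.deg ≤ C.deg + D.deg ∧ Set.range W.t ⊆ Set.range C.t ∪ Set.range D.t := by
  let J := C.t.ker ⊓ D.t.ker
  have hsupp : (J.support : Set X) ⊆ Set.range C.t ∪ Set.range D.t := by
    intro x hx
    obtain ⟨_, ⟨U, hU, rfl⟩, hxU, -⟩ := X.isBasis_affineOpens.exists_subset_of_mem_open (Set.mem_univ x) isOpen_univ
    by_contra hne
    rw [Set.mem_union, not_or] at hne
    have key : ∀ E : Cl f, x ∉ Set.range E.t → x ∉ (E.t.ker.support : Set X) := fun E hE h => by
      rw [Scheme.Hom.support_ker, E.t.isClosedEmbedding.isClosed_range.closure_eq] at h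
      exact hE h
    have h1 := key C hne.1
    have h2 := key D hne.2
    have hx' := ((J.coe_support_inter ⟨U, hU⟩).le ⟨hx, hxU⟩).1
    have h1' : x ∉ X.zeroLocus (U := U) (C.t.ker.ideal ⟨U, hU⟩ : Set Γ(X, U)) := fun h =>
      h1 ((C.t.ker.coe_support_inter ⟨U, hU⟩).ge ⟨h, hxU⟩).1
    have h2' : x ∉ X.zeroLocus (U := U) (D.t.ker.ideal ⟨U, hU⟩ : Set Γ(X, U)) := fun h =>
      h2 ((D.t.ker.coe_support_inter ⟨U, hU⟩).ge ⟨h, hxU⟩).1
    simp only [Scheme.mem_zeroLocus_iff, SetLike.mem_coe, not_forall, not_not] at h1' h2'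
    obtain ⟨r, hr, hxr⟩ := h1'
    obtain ⟨s, hs, hxs⟩ := h2'
    have hrs : r * s ∈ J.ideal ⟨U, hU⟩ := by
      rw [Scheme.IdealSheafData.ideal_inf, Pi.inf_apply]
      exact ⟨Ideal.mul_mem_right _ _ hr, Ideal.mul_mem_left _ _ hs⟩
    refine ((X.mem_zeroLocus_iff _ _).1 hx' (r * s) hrs) ?_
    rw [Scheme.basicOpen_mul]
    exact ⟨hxr, hxs⟩
  haveI : IsFinite (J.subschemeι ≫ f) := by
    have hfin : (J.support : Set X).Finite := (C.finite_range.union D.finite_range).subset hsupp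
    haveI : LocallyQuasiFinite (J.subschemeι ≫ f) := LocallyQuasiFinite.of_finite_preimage_singleton _ fun y => by
      refine Set.Finite.subset (hfin.preimage J.subschemeι.isClosedEmbedding.injective.injOn) fun z _ => ?_
      exact J.range_subschemeι.le ⟨z, rfl⟩
    exact IsFinite.of_isProper_of_locallyQuasiFinite _
  let W : Cl f := { A := J.subscheme, t := J.subschemeι }
  have hC : W.t.ker ≤ C.t.ker := by rw [Scheme.IdealSheafData.ker_subschemeι]; exact inf_le_left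
  have hD : W.t.ker ≤ D.t.ker := by rw [Scheme.IdealSheafData.ker_subschemeι]; exact inf_le_right
  let jC := IsClosedImmersion.lift W.t C.t hC
  let jD := IsClosedImmersion.lift W.t D.t hD
  have hjC : jC ≫ W.t = C.t := IsClosedImmersion.lift_fac _ _ _
  have hjD : jD ≫ W.t = D.t := IsClosedImmersion.lift_fac _ _ _
  have hbot : RingHom.ker (jC.appLE ⊤ ⊤ le_top).hom ⊓ RingHom.ker (jD.appLE ⊤ ⊤ le_top).hom = ⊥ := by
    rw [eq_bot_iff]
    intro r hr
    refine W.A.sheaf.eq_of_locally_eq' (fun U : X.affineOpens => W.t ⁻¹ᵁ U.1) ⊤ (fun U => homOfLE le_top)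
      (by rw [← Scheme.Hom.preimage_iSup, iSup_affineOpens_eq_top X]; exact le_rfl) _ _ fun U => ?_
    obtain ⟨y, hy⟩ := J.subschemeι_app_surjective U (W.A.presheaf.map (homOfLE le_top).op r)
    have key : ∀ (E : Cl f) (j : E.A ⟶ W.A) (hj : j ≫ W.t = E.t),
        r ∈ RingHom.ker (j.appLE ⊤ ⊤ le_top).hom → y ∈ E.t.ker.ideal U := fun E j hj hr => by
      rw [Scheme.Hom.ker_apply, RingHom.mem_ker]
      generalize E.t = tE at hj ⊢
      subst hj
      rw [Scheme.Hom.comp_app, CommRingCat.comp_apply, hy]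
      show (j.app _).hom (W.A.presheaf.map _ r) = 0
      rw [← CommRingCat.comp_apply, Scheme.Hom.naturality, CommRingCat.comp_apply]
      rw [show (j.app ⊤).hom r = 0 from by rw [RingHom.mem_ker, appLE_top] at hr; exact hr, map_zero]
    have hy0 : y ∈ J.ideal U := by
      rw [Scheme.IdealSheafData.ideal_inf, Pi.inf_apply]
      exact ⟨key C jC hjC hr.1, key D jD hjD hr.2⟩
    refine hy.symm.trans (Eq.trans ?_ (map_zero (W.A.presheaf.map _).hom).symm)
    rw [← J.ker_subschemeι_app U] at hy0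
    exact hy0
  refine ⟨W, jC, jD, hjC, hjD, hbot, ?_, fun x hx => hsupp (J.range_subschemeι.le hx)⟩
  letI := (cst (W.t ≫ f) (⊤ : W.A.Opens)).toAlgebra
  letI := (cst (C.t ≫ f) (⊤ : C.A.Opens)).toAlgebra
  letI := (cst (D.t ≫ f) (⊤ : D.A.Opens)).toAlgebra
  haveI : Module.Finite k Γ(C.A, ⊤) := finite_cst (C.t ≫ f)
  haveI : Module.Finite k Γ(D.A, ⊤) := finite_cst (D.t ≫ f)
  let φC : Γ(W.A, ⊤) →ₐ[k] Γ(C.A, ⊤) :=
    ⟨(jC.appLE ⊤ ⊤ le_top).hom, fun c => (cst_comp jC (W.t ≫ f) le_top c).trans (by rw [← Category.assoc, hjC]; rfl)⟩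
  let φD : Γ(W.A, ⊤) →ₐ[k] Γ(D.A, ⊤) :=
    ⟨(jD.appLE ⊤ ⊤ le_top).hom, fun c => (cst_comp jD (W.t ≫ f) le_top c).trans (by rw [← Category.assoc, hjD]; rfl)⟩
  have hinj : Function.Injective (φC.toLinearMap.prod φD.toLinearMap) := by
    rw [injective_iff_map_eq_zero]
    intro z hz
    rw [← Ideal.mem_bot (x := z), ← hbot]
    exact ⟨(Prod.ext_iff.1 hz).1, (Prod.ext_iff.1 hz).2⟩
  exact (LinearMap.finrank_le_finrank_of_injective hinj).trans (Module.finrank_prod (R := k)).le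

/-- The meet of two closed subschemes inside a third. -/
theorem exists_meet {C D W : Cl f} (jC : C.A ⟶ W.A) (jD : D.A ⟶ W.A) :
    ∃ (E : Cl f) (jE : E.A ⟶ W.A), jE ≫ W.t = E.t ∧ RingHom.ker (jE.appLE ⊤ ⊤ le_top).hom =
      RingHom.ker (jC.appLE ⊤ ⊤ le_top).hom ⊔ RingHom.ker (jD.appLE ⊤ ⊤ le_top).hom := by
  let K := RingHom.ker (jC.appLE ⊤ ⊤ le_top).hom ⊔ RingHom.ker (jD.appLE ⊤ ⊤ le_top).hom
  let jE : Spec (CommRingCat.of (Γ(W.A, ⊤) ⧸ K)) ⟶ W.A :=
    Spec.map (CommRingCat.ofHom (Ideal.Quotient.mk K)) ≫ W.A.isoSpec.inv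
  haveI : IsClosedImmersion (Spec.map (CommRingCat.ofHom (Ideal.Quotient.mk K))) :=
    IsClosedImmersion.spec_of_surjective _ Ideal.Quotient.mk_surjective
  haveI : IsClosedImmersion (jE ≫ W.t) := inferInstance
  haveI : IsFinite ((jE ≫ W.t) ≫ f) := by rw [Category.assoc]; infer_instance
  refine ⟨{ A := _, t := jE ≫ W.t }, jE, rfl, ?_⟩
  have h : jE.appTop = CommRingCat.ofHom (Ideal.Quotient.mk K) ≫ (Scheme.ΓSpecIso _).inv := by
    show (Spec.map _ ≫ W.A.isoSpec.inv).appTop = _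
    rw [Scheme.Hom.comp_appTop, show W.A.isoSpec.inv.appTop = (Scheme.ΓSpecIso Γ(W.A, ⊤)).inv by
      rw [← cancel_mono W.A.isoSpec.hom.appTop, ← Scheme.Hom.comp_appTop]
      simp [Scheme.isoSpec_hom], Scheme.ΓSpecIso_inv_naturality]
    rfl
  ext r
  rw [RingHom.mem_ker, appLE_top, h]
  show (Scheme.ΓSpecIso (CommRingCat.of (Γ(W.A, ⊤) ⧸ K))).inv.hom (Ideal.Quotient.mk K r) = 0 ↔ _
  refine (map_eq_zero_iff _ ((Scheme.ΓSpecIso (CommRingCat.of (Γ(W.A, ⊤) ⧸ K))).symm.commRingCatIsoToRingEquiv.injective)).trans ?_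
  exact Ideal.Quotient.eq_zero_iff_mem

/-- A rational point. -/
theorem exists_point_cl [IsSeparated f] (x : Spec (CommRingCat.of k) ⟶ X) (hx : x ≫ f = 𝟙 _) :
    ∃ P : Cl f, P.deg = 1 ∧ Set.range P.t = Set.range x := by
  haveI := isClosedImmersion_of_comp_eq_id _ _ hx
  haveI : IsFinite (x ≫ f) := hx ▸ inferInstance
  refine ⟨{ A := _, t := x }, ?_, rfl⟩
  show TautSec.deg (x ≫ f) = 1
  rw [← isFinLocFreeOfDeg_iff, hx]
  exact ⟨⟨inferInstance, inferInstance, inferInstance⟩, fun y => by rw [Scheme.Hom.finrank_eq_one_of_isIso]; rfl⟩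

/-- Enlarging to a prescribed degree. -/
theorem exists_deg_eq [IsAlgClosed k] [IsProper f] [Infinite X] (C : Cl f) (m : ℕ) :
    ∃ (D : Cl f) (j : C.A ⟶ D.A), j ≫ D.t = C.t ∧ D.deg = C.deg + m := by
  induction m with
  | zero => exact ⟨C, 𝟙 _, Category.id_comp _, rfl⟩
  | succ m ih =>
    obtain ⟨D, j, hj, hD⟩ := ih
    haveI : JacobsonSpace X := LocallyOfFiniteType.jacobsonSpace f
    have hclosed : IsClosed (Set.range D.t) := D.t.isClosedEmbedding.isClosed_range
    have hne : (Set.range D.t)ᶜ.Nonempty := Set.nonempty_compl.2 fun h =>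
      (Set.infinite_univ (α := X)) (h ▸ D.finite_range)
    obtain ⟨x, hxD, hxc⟩ := nonempty_inter_closedPoints hne hclosed.isOpen_compl.isLocallyClosed
    obtain ⟨P, hP1, hP⟩ := exists_point_cl (f := f) (pointOfClosedPoint f x hxc) (pointOfClosedPoint_comp f x hxc)
    obtain ⟨W, jD, jP, hjD, hjP, -, hle, -⟩ := exists_union D P
    refine ⟨W, j ≫ jD, by rw [Category.assoc, hjD, hj], ?_⟩
    have h1 := deg_le_of_hom jD hjD
    have h2 : D.deg ≠ W.deg := fun h => by
      haveI := h1.2 h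
      have hxP : x ∈ Set.range P.t := by
        rw [hP]; exact ⟨IsLocalRing.closedPoint k, pointOfClosedPoint_apply f x hxc _⟩
      obtain ⟨w, rfl⟩ := range_subset_of_hom jP hjP hxP
      obtain ⟨d, rfl⟩ := jD.homeomorph.surjective w
      exact hxD ⟨d, by rw [← hjD]; rfl⟩
    omega

end Cl

end Groth.Agent.TautSec
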