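import Groth.Agent.TautSec.Sect
import Groth.Prelude.Def_TautSec

/-!
# Evaluation at points of the secant bundle
-/

set_option autoImplicit false
set_option linter.style.haveILetI false
set_option backward.isDefEq.respectTransparency false
set_option backward.isDefEq.respectTransparency.types false

universe u

open CategoryTheory CategoryTheory.Limits AlgebraicGeometry TopologicalSpace

namespace Groth.Agent.TautSec

variable {X S : Scheme.{u}} (f : X ⟶ S) (H : Over S) (I : (PicF.XT f H).IdealSheafData) (F : X.Modules)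

theorem unit_app_eq {Y Z : Scheme.{u}} (g : Y ⟶ Z) {M : Z.Modules} {N : Y.Modules}
    (α : M ⟶ (Scheme.Modules.pushforward g).obj N) (x : Γ(M, ⊤)) :
    (((Scheme.Modules.pullbackPushforwardAdjunction g).homEquiv _ _).symm α).app ⊤ (FComplLib.pullTop g M x) =
      α.app ⊤ x :=
  congrArg (fun t => Scheme.Modules.Hom.app t ⊤ x)
    (((Scheme.Modules.pullbackPushforwardAdjunction g).homEquiv_unit _ _ _).symm.trans (Equiv.apply_symm_apply _ α))

/-- The evaluation map sends a global section to its inverse image on the family. -/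
theorem evalMap_pullTop (σ : Γ(F, ⊤)) :
    (TautSh.evalMap f H I F).app ⊤ (FComplLib.pullTop H.hom ((Scheme.Modules.pushforward f).obj F)
      (show Γ((Scheme.Modules.pushforward f).obj F, ⊤) from σ)) =
      (show Γ(TautSh.taut f H I F, ⊤) from FComplLib.pullTop (TautSh.famToX f H I) F σ) := by
  rw [TautSh.evalMap, unit_app_eq]
  let M := (Scheme.Modules.pullback (TautSh.famToX f H I)).obj F
  let y : Γ(M, ⊤) := FComplLib.pullTop (TautSh.famToX f H I) F σ
  exact QCoh.map_id' (M := M) (eqToHom rfl) y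

/-- The secant quotient at a point. -/
theorem secant_pullTop {PE : Scheme.{u}} (πE : PE ⟶ H.left) (OE : PE.Modules)
    (qE : (Scheme.Modules.pullback πE).obj (TautSh.taut f H I F) ⟶ OE) (σ : Γ(F, ⊤)) :
    (TautSh.secantQuot f H I F πE OE qE).app ⊤ (FComplLib.pullTop (πE ≫ H.hom) _
      (show Γ((Scheme.Modules.pushforward f).obj F, ⊤) from σ)) =
      qE.app ⊤ (FComplLib.pullTop πE (TautSh.taut f H I F)
        (show Γ(TautSh.taut f H I F, ⊤) from FComplLib.pullTop (TautSh.famToX f H I) F σ)) := by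
  let G := (Scheme.Modules.pushforward f).obj F
  let σ' : Γ(G, ⊤) := σ
  let p := FComplLib.pullTop πE ((Scheme.Modules.pullback H.hom).obj G) (FComplLib.pullTop H.hom G σ')
  have h1 : ((Scheme.Modules.pullbackComp πE H.hom).inv.app G).app ⊤ (FComplLib.pullTop (πE ≫ H.hom) G σ') = p := by
    rw [← FComplLib.pullTop_comp]
    exact congrArg (fun φ => Scheme.Modules.Hom.app φ ⊤ p) ((Scheme.Modules.pullbackComp πE H.hom).hom_inv_id_app G)
  show qE.app ⊤ (((Scheme.Modules.pullback πE).map (TautSh.evalMap f H I F)).app ⊤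
    (((Scheme.Modules.pullbackComp πE H.hom).inv.app G).app ⊤ (FComplLib.pullTop (πE ≫ H.hom) G σ'))) = _
  rw [h1]
  refine congrArg (fun z => qE.app ⊤ z) ?_
  rw [FComplLib.pullTop_naturality]
  exact congrArg (fun z => FComplLib.pullTop πE _ z) (evalMap_pullTop f H I F σ)

/-- Changing the open in which a section lives. -/
theorem qv_top {B P T : Scheme.{u}} (π : P ⟶ B) {V : B.Modules} (O1 : P.Modules)
    (q : (Scheme.Modules.pullback π).obj V ⟶ O1) (a : T ⟶ P) {U : B.Opens} (hU : (⊤ : T.Opens) ≤ (a ≫ π) ⁻¹ᵁ U)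
    (x : Γ(V, ⊤)) :
    qv π O1 q a hU (V.presheaf.map (homOfLE le_top).op x) =
      FComplLib.pullTop a O1 (q.app ⊤ (FComplLib.pullTop π V x)) := by
  have e1 : QCoh.pullSec π V (le_refl (π ⁻¹ᵁ U)) (V.presheaf.map (homOfLE le_top).op x) =
      ((Scheme.Modules.pullback π).obj V).presheaf.map (homOfLE le_top).op (FComplLib.pullTop π V x) := by
    rw [← pullSec_top]
    exact (ExistEasy.pullSec_res π V le_top le_top le_top le_rfl x).symm
  rw [qv, e1, QCoh.map_app_comm q (homOfLE le_top), ← pullSec_top a,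
    ← ExistEasy.pullSec_res a O1 (V := ⊤) (V' := π ⁻¹ᵁ U) (W := ⊤) (W' := ⊤) le_top le_rfl le_top _]
  exact QCoh.map_id' _ _

/-- The value of a map classifying a quotient at a point, up to isomorphism. -/
theorem qv_classify {B P T T' : Scheme.{u}} (π : P ⟶ B) {V : B.Modules} (O1 : P.Modules)
    (q : (Scheme.Modules.pullback π).obj V ⟶ O1) (g : T ⟶ B) (L : T.Modules)
    (s : (Scheme.Modules.pullback g).obj V ⟶ L) (h : T ⟶ P) (hh : TautSh.IsMapOfQuot π V O1 q g L s h)
    (a : T' ⟶ T) (v : Γ(V, ⊤)) :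
    qv π O1 q (a ≫ h) (U := ⊤) le_top v = 0 ↔
      FComplLib.pullTop a L (s.app ⊤ (FComplLib.pullTop g V v)) = 0 := by
  obtain ⟨hg, e, he⟩ := hh
  subst hg
  let z := q.app ⊤ (FComplLib.pullTop π V v)
  have h0 : qv π O1 q (a ≫ h) (U := ⊤) le_top v = FComplLib.pullTop (a ≫ h) O1 z := by
    rw [← qv_top π O1 q (a ≫ h) (U := ⊤) le_top v]
    congr 1
    exact (QCoh.map_id' _ _).symm
  have h1 : s.app ⊤ (FComplLib.pullTop (h ≫ π) V v) = e.hom.app ⊤ (FComplLib.pullTop h O1 z) := by
    rw [← he]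
    show e.hom.app ⊤ (((Scheme.Modules.pullback h).map q).app ⊤
      (((Scheme.Modules.pullbackComp h π).inv.app V).app ⊤
        (((Scheme.Modules.pullbackCongr (rfl : h ≫ π = h ≫ π)).inv.app V).app ⊤ (FComplLib.pullTop (h ≫ π) V v)))) = _
    refine congrArg (fun y => e.hom.app ⊤ y) ?_
    rw [← FComplLib.pullTop_naturality]
    refine congrArg (fun y => ((Scheme.Modules.pullback h).map q).app ⊤ y) ?_
    rw [← FComplLib.pullTop_comp]
    exact congrArg (fun φ => Scheme.Modules.Hom.app φ ⊤ (FComplLib.pullTop h _ (FComplLib.pullTop π V v)))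
      ((Scheme.Modules.pullbackComp h π).hom_inv_id_app V)
  rw [h0, h1, ← FComplLib.pullTop_comp a h O1 z, ← FComplLib.pullTop_naturality a e.hom]
  let A := ((Scheme.Modules.pullbackComp a h).app O1).symm ≪≫ Iso.refl _
  have inj : ∀ {M N : T'.Modules} (i : M ≅ N) (x : Γ(M, ⊤)), i.hom.app ⊤ x = 0 ↔ x = 0 := fun i x => by
    refine ⟨fun hx => ?_, fun hx => by rw [hx, map_zero]⟩
    have h2 := congrArg (fun φ => Scheme.Modules.Hom.app φ ⊤ x) i.hom_inv_id
    refine h2.symm.trans ?_
    show i.inv.app ⊤ (i.hom.app ⊤ x) = 0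
    rw [hx, map_zero]
  exact (inj ((Scheme.Modules.pullbackComp a h).app O1) _).trans (inj ((Scheme.Modules.pullback a).mapIso e) _).symm

/-- The linear system map at a point. -/
theorem linSys_pullTop (σ : Γ(F, ⊤)) :
    (TautSh.linSysQuot f F).app ⊤ (FComplLib.pullTop f ((Scheme.Modules.pushforward f).obj F)
      (show Γ((Scheme.Modules.pushforward f).obj F, ⊤) from σ)) = σ :=
  congrArg (fun t => Scheme.Modules.Hom.app t ⊤ (show Γ((Scheme.Modules.pushforward f).obj F, ⊤) from σ))
    ((Scheme.Modules.pullbackPushforwardAdjunction f).right_triangle_components F)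

end Groth.Agent.TautSec
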