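import Groth.Agent.TautSec.Cluster
import Groth.Agent.HilbDLib.Separated
import Groth.Prelude.Def_TautSec

/-!
# Fibres of a family of finite subschemes at rational points
-/

set_option autoImplicit false
set_option linter.style.haveILetI false
set_option backward.isDefEq.respectTransparency false
set_option backward.isDefEq.respectTransparency.types false

universe u

open CategoryTheory CategoryTheory.Limits AlgebraicGeometry TopologicalSpace

namespace Groth.Agent.TautSec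

variable {X : Scheme.{u}} {k : Type u} [Field k] {f : X ⟶ Spec (CommRingCat.of k)}
  {H : Over (Spec (CommRingCat.of k))} {d : ℕ}

/-- The point `Spec k` over itself. -/
noncomputable abbrev pt (k : Type u) [Field k] : Over (Spec (CommRingCat.of k)) := Over.mk (𝟙 _)

instance (f : X ⟶ Spec (CommRingCat.of k)) : IsIso (pullback.fst f (pt k).hom) :=
  inferInstanceAs (IsIso (pullback.fst f (𝟙 (Spec (CommRingCat.of k)))))

/-- A rational point as a morphism over the base. -/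
noncomputable abbrev ptHom (ξ : Spec (CommRingCat.of k) ⟶ H.left) (hξ : ξ ≫ H.hom = 𝟙 _) : pt k ⟶ H :=
  Over.homMk ξ hξ

/-- The fibre of a family at a rational point. -/
theorem exists_fibre [IsSeparated f] (Z : HilbD.Obj f d H) (ξ : Spec (CommRingCat.of k) ⟶ H.left)
    (hξ : ξ ≫ H.hom = 𝟙 _) :
    ∃ (C : Cl f) (jC : C.A ⟶ TautSh.fam f H Z.1), C.deg = d ∧ jC ≫ TautSh.famToX f H Z.1 = C.t ∧
      IsPullback jC (C.t ≫ f) (TautSh.famToH f H Z.1) ξ ∧
      (C.t ≫ inv (pullback.fst f (pt k).hom)).ker = HilbD.pull f (ptHom ξ hξ) Z.1 := by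
  let g := ptHom ξ hξ
  let m := PicF.XTmap f g
  let J := HilbD.pull f g Z.1
  let pr := pullback.fst f (pt k).hom
  have hproj : PicF.XTproj f (pt k) = pr ≫ f := by
    simp [pr, pullback.condition]
    rfl
  haveI : IsClosedImmersion (pullback.snd Z.1.subschemeι m) :=
    MorphismProperty.pullback_snd _ _ inferInstance
  let e : J.subscheme ⟶ pullback Z.1.subschemeι m :=
    IsClosedImmersion.lift (pullback.snd Z.1.subschemeι m) J.subschemeι (Scheme.IdealSheafData.ker_subschemeι J).ge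
  have he : e ≫ pullback.snd Z.1.subschemeι m = J.subschemeι := IsClosedImmersion.lift_fac _ _ _
  haveI : IsIso e := IsClosedImmersion.isIso_of_ker_eq _ _ _ he (Scheme.IdealSheafData.ker_subschemeι J)
  have hdeg := HilbDLib.isFinLocFreeOfDeg_pull f g Z.1 Z.2
  rw [hproj, ← Category.assoc] at hdeg
  haveI : IsFinite ((J.subschemeι ≫ pr) ≫ f) := hdeg.1.1
  let C : Cl f := { A := J.subscheme, t := J.subschemeι ≫ pr }
  refine ⟨C, e ≫ pullback.fst Z.1.subschemeι m, (isFinLocFreeOfDeg_iff (C.t ≫ f) d).1 hdeg, ?_, ?_, ?_⟩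
  · show (e ≫ pullback.fst Z.1.subschemeι m) ≫ Z.1.subschemeι ≫ pullback.fst f H.hom = J.subschemeι ≫ pr
    rw [Category.assoc, ← Category.assoc (pullback.fst Z.1.subschemeι m), pullback.condition, Category.assoc,
      reassoc_of% he]
    congr 1
    exact (pullback.lift_fst _ _ _).trans (Category.comp_id _)
  · have h1 := (IsPullback.of_hasPullback Z.1.subschemeι m).paste_vert (HilbDLib.isPullback_XTmap f g)
    refine h1.of_iso (asIso e).symm (Iso.refl _) (Iso.refl _) (Iso.refl _) ?_ ?_ (by simp) (by simp [g])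
    · simp
    · simp only [Iso.symm_hom, asIso_inv, Iso.refl_hom, Category.comp_id]
      rw [eq_comm, IsIso.inv_comp_eq, ← Category.assoc e, he]
      show (J.subschemeι ≫ pr) ≫ f = J.subschemeι ≫ PicF.XTproj f (pt k)
      rw [hproj, Category.assoc]
  · show ((J.subschemeι ≫ pr) ≫ inv pr).ker = J
    simp

/-- The ring of functions of the fibre at a rational point. -/
theorem fibre_sections (Z : HilbD.Obj f d H) (ξ : Spec (CommRingCat.of k) ⟶ H.left) (hξ : ξ ≫ H.hom = 𝟙 _)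
    (C : Cl f) (jC : C.A ⟶ TautSh.fam f H Z.1) (hC : IsPullback jC (C.t ≫ f) (TautSh.famToH f H Z.1) ξ)
    {U : H.left.Opens} (hU : IsAffineOpen U) (hξU : (⊤ : (Spec (CommRingCat.of k)).Opens) ≤ ξ ⁻¹ᵁ U) :
    ∃ (hle : (⊤ : C.A.Opens) ≤ jC ⁻¹ᵁ (TautSh.famToH f H Z.1 ⁻¹ᵁ U)),
      Function.Surjective (ξ.appLE U ⊤ hξU) ∧
      Function.Surjective (jC.appLE (TautSh.famToH f H Z.1 ⁻¹ᵁ U) ⊤ hle) ∧
      RingHom.ker (jC.appLE (TautSh.famToH f H Z.1 ⁻¹ᵁ U) ⊤ hle).hom ≤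
        (RingHom.ker (ξ.appLE U ⊤ hξU).hom).map ((TautSh.famToH f H Z.1).app U).hom := by
  let p := TautSh.famToH f H Z.1
  haveI : IsFinite p := Z.2.1.1
  have hle : (⊤ : C.A.Opens) ≤ jC ⁻¹ᵁ (p ⁻¹ᵁ U) := fun x _ => by
    show (jC ≫ p) x ∈ U
    rw [hC.w]
    exact hξU trivial
  have hZ : IsAffineOpen (p ⁻¹ᵁ U) := hU.preimage p
  let T := Spec (CommRingCat.of k)
  let φ : Γ(T, ⊤) ≃+* k := (Scheme.ΓSpecIso (CommRingCat.of k)).commRingCatIsoToRingEquiv
  have hid : ∀ c : k, ξ.appLE U ⊤ hξU (cst H.hom U c) = φ.symm c := fun c => by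
    rw [cst_comp, hξ]
    show ((Scheme.Hom.appLE (𝟙 T) ⊤ ⊤ _).hom _) = _
    simp [Scheme.Hom.appLE]
    rfl
  have hsξ : Function.Surjective (ξ.appLE U ⊤ hξU) := fun z => ⟨cst H.hom U (φ z), by
    rw [hid]; exact φ.symm_apply_apply z⟩
  refine ⟨hle, hsξ, ?_, ?_⟩
  · let ξ' : T ⟶ U := IsOpenImmersion.lift U.ι ξ (by rw [Scheme.Opens.range_ι]; exact fun _ ⟨x, hx⟩ => hx ▸ hξU trivial)
    let j' : C.A ⟶ (p ⁻¹ᵁ U : (TautSh.fam f H Z.1).Opens) := IsOpenImmersion.lift (p ⁻¹ᵁ U).ι jC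
      (by rw [Scheme.Opens.range_ι]; exact fun _ ⟨x, hx⟩ => hx ▸ hle trivial)
    haveI : IsClosedImmersion ξ' := by
      haveI : IsAffine (U : Scheme.{u}) := hU
      exact isClosedImmersion_of_comp_eq_id (U.ι ≫ H.hom) ξ' (by rw [IsOpenImmersion.lift_fac_assoc, hξ])
    have h2 : IsPullback j' (C.t ≫ f) (p ∣_ U) ξ' := by
      refine IsPullback.of_right ?_ ?_ (isPullback_morphismRestrict p U).flip
      · rw [IsOpenImmersion.lift_fac, IsOpenImmersion.lift_fac]; exact hC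
      · rw [← cancel_mono U.ι, Category.assoc, morphismRestrict_ι, IsOpenImmersion.lift_fac_assoc, hC.w,
          Category.assoc (C.t ≫ f), IsOpenImmersion.lift_fac]
    haveI : IsClosedImmersion j' := MorphismProperty.of_isPullback h2.flip inferInstance
    haveI : IsAffine ((p ⁻¹ᵁ U : (TautSh.fam f H Z.1).Opens) : Scheme.{u}) := hZ
    have hs := (IsClosedImmersion.isAffine_surjective_of_isAffine j').2
    have hfac : jC.appLE (p ⁻¹ᵁ U) ⊤ hle = (p ⁻¹ᵁ U).ι.appLE (p ⁻¹ᵁ U) ⊤ (by simp) ≫ j'.appLE ⊤ ⊤ le_top := by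
      rw [Scheme.Hom.appLE_comp_appLE]
      congr 1
      exact (IsOpenImmersion.lift_fac _ _ _).symm
    rw [hfac, appLE_top j']
    intro z
    obtain ⟨w, rfl⟩ := hs z
    obtain ⟨v, hv⟩ := ((p ⁻¹ᵁ U).topIso.commRingCatIsoToRingEquiv).symm.surjective w
    refine ⟨v, ?_⟩
    rw [CommRingCat.comp_apply]
    congr 1
    rw [← hv]
    have e1 : (p ⁻¹ᵁ U).ι.appLE (p ⁻¹ᵁ U) ⊤ (by simp) = (p ⁻¹ᵁ U).topIso.inv := by
      rw [Scheme.Opens.ι_appLE, Scheme.Opens.topIso_inv]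
      congr 1
    rw [e1]
    rfl
  · let χ : Γ(H.left, U) →+* k := φ.toRingHom.comp (ξ.appLE U ⊤ hξU).hom
    let K := (RingHom.ker (ξ.appLE U ⊤ hξU).hom).map (p.app U).hom
    let q : CommRingCat.of k ⟶ CommRingCat.of (Γ(TautSh.fam f H Z.1, p ⁻¹ᵁ U) ⧸ K) :=
      CommRingCat.ofHom ((Ideal.Quotient.mk K).comp ((p.app U).hom.comp (cst H.hom U)))
    let mk : Γ(TautSh.fam f H Z.1, p ⁻¹ᵁ U) ⟶ CommRingCat.of (Γ(TautSh.fam f H Z.1, p ⁻¹ᵁ U) ⧸ K) :=
      CommRingCat.ofHom (Ideal.Quotient.mk K)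
    have hχ : Spec.map (CommRingCat.ofHom χ) ≫ hU.fromSpec = ξ := by
      rw [show CommRingCat.ofHom χ = ξ.appLE U ⊤ hξU ≫ (Scheme.ΓSpecIso (CommRingCat.of k)).hom from rfl,
        Spec.map_comp, Category.assoc, hU.SpecMap_appLE_fromSpec ξ (isAffineOpen_top T) hξU,
        IsAffineOpen.fromSpec_top, ← Category.assoc]
      simp [Scheme.isoSpec_Spec_inv, ← Spec.map_comp]
    have hring : p.app U ≫ mk = CommRingCat.ofHom χ ≫ q := by
      ext r
      show Ideal.Quotient.mk K ((p.app U).hom r) = Ideal.Quotient.mk K ((p.app U).hom (cst H.hom U (χ r)))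
      rw [Ideal.Quotient.eq, ← map_sub]
      refine Ideal.mem_map_of_mem _ ?_
      rw [RingHom.mem_ker, map_sub, sub_eq_zero]
      exact ((hid (χ r)).trans (φ.symm_apply_apply _)).symm
    have hcomm : (Spec.map mk ≫ hZ.fromSpec) ≫ p = Spec.map q ≫ ξ := by
      rw [Category.assoc, ← hU.SpecMap_appLE_fromSpec p hZ le_rfl, ← Scheme.Hom.app_eq_appLE, ← Category.assoc,
        ← Spec.map_comp, hring, Spec.map_comp, Category.assoc, hχ]
    obtain ⟨l, hl, -⟩ : ∃ l, l ≫ jC = Spec.map mk ≫ hZ.fromSpec ∧ l ≫ (C.t ≫ f) = Spec.map q :=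
      ⟨hC.lift _ _ hcomm, hC.lift_fst _ _ _, hC.lift_snd _ _ _⟩
    intro r hr
    rw [RingHom.mem_ker] at hr
    have h1 : (jC.appLE (p ⁻¹ᵁ U) ⊤ hle ≫ l.appLE ⊤ ⊤ le_top).hom r = 0 := by
      rw [CommRingCat.comp_apply, hr, map_zero]
    rw [Scheme.Hom.appLE_comp_appLE] at h1
    simp only [hl] at h1
    have h2 : (Spec.map mk ≫ hZ.fromSpec).appLE (p ⁻¹ᵁ U) ⊤ (by simp) = mk ≫ (Scheme.ΓSpecIso _).inv := by
      rw [← Scheme.Hom.appLE_comp_appLE _ hZ.fromSpec (p ⁻¹ᵁ U) ⊤ ⊤ (by simp) le_top, appLE_top]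
      have : hZ.fromSpec.appLE (p ⁻¹ᵁ U) ⊤ (by simp) = (Scheme.ΓSpecIso Γ(TautSh.fam f H Z.1, p ⁻¹ᵁ U)).inv := by
        rw [Scheme.Hom.appLE, hZ.fromSpec_app_self, Category.assoc, ← Functor.map_comp]
        exact (congrArg (_ ≫ ·) ((Spec _).presheaf.map_id _)).trans (Category.comp_id _)
      rw [this]
      exact (Scheme.ΓSpecIso_inv_naturality mk).symm
    rw [h2] at h1
    exact Ideal.Quotient.eq_zero_iff_mem.1
      ((Scheme.ΓSpecIso (CommRingCat.of (Γ(TautSh.fam f H Z.1, p ⁻¹ᵁ U) ⧸ K))).symm.commRingCatIsoToRingEquiv.injective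
        (h1.trans (map_zero _).symm))

end Groth.Agent.TautSec
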