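import Groth.Agent.TautSec.Secant
import Mathlib.FieldTheory.IsAlgClosed.Basic
import Mathlib.Topology.KrullDimension

/-!
# Secant maps separate rational points off the lower secant variety
-/

set_option autoImplicit false
set_option linter.style.haveILetI false
set_option backward.isDefEq.respectTransparency false
set_option backward.isDefEq.respectTransparency.types false

universe u

open CategoryTheory CategoryTheory.Limits AlgebraicGeometry TopologicalSpace

namespace Groth.Agent.TautSec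

variable {X : Scheme.{u}} {k : Type u} [Field k] {f : X ⟶ Spec (CommRingCat.of k)} {L : X.Modules}
  {H : Over (Spec (CommRingCat.of k))} {d : ℕ} (Z : HilbD.Obj f d H)
  {P : Scheme.{u}} (π : P ⟶ Spec (CommRingCat.of k)) (O1 : P.Modules)
  (qP : (Scheme.Modules.pullback π).obj ((Scheme.Modules.pushforward f).obj L) ⟶ O1)

/-- The kernel on global sections at a point of `P`. -/
def Van (p : Spec (CommRingCat.of k) ⟶ P) (σ : Γ(L, ⊤)) : Prop :=
  qv π O1 qP p (U := ⊤) le_top (show Γ((Scheme.Modules.pushforward f).obj L, ⊤) from σ) = 0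

variable {PE : Scheme.{u}} (πE : PE ⟶ H.left) (OE : PE.Modules)
  (qE : (Scheme.Modules.pullback πE).obj (TautSh.taut f H Z.1 L) ⟶ OE) (h : PE ⟶ P)
  (hh : TautSh.IsMapOfQuot π ((Scheme.Modules.pushforward f).obj L) O1 qP (πE ≫ H.hom) OE
    (TautSh.secantQuot f H Z.1 L πE OE qE) h)

include hh in
theorem van_secant (a : Spec (CommRingCat.of k) ⟶ PE) {U : H.left.Opens}
    (hU : (⊤ : (Spec (CommRingCat.of k)).Opens) ≤ (a ≫ πE) ⁻¹ᵁ U) (σ : Γ(L, ⊤)) :
    Van π O1 qP (a ≫ h) σ ↔ qv πE OE qE a hU ((TautSh.taut f H Z.1 L).presheaf.map (homOfLE le_top).op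
      (show Γ(TautSh.taut f H Z.1 L, ⊤) from FComplLib.pullTop (TautSh.famToX f H Z.1) L σ)) = 0 := by
  rw [Van, qv_classify π O1 qP _ OE _ h hh a, qv_top, secant_pullTop]

variable [IsSeparated f] (hL : Coh.IsQCoh L) (hPE : KRR.IsProjBundle πE (TautSh.taut f H Z.1 L) OE qE)

include hh hL hPE in
theorem exists_data (a : Spec (CommRingCat.of k) ⟶ PE) (ha : a ≫ πE ≫ H.hom = 𝟙 _) :
    ∃ (C : Cl f) (μ : Γ((Scheme.Modules.pullback C.t).obj L, ⊤) →+ k), C.deg = d ∧ IsFun C μ ∧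
      (C.t ≫ inv (pullback.fst f (pt k).hom)).ker =
        HilbD.pull f (ptHom (a ≫ πE) (by rw [Category.assoc]; exact ha)) Z.1 ∧
      ∀ σ, μ (FComplLib.pullTop C.t L σ) = 0 ↔ Van π O1 qP (a ≫ h) σ := by
  have hξ : (a ≫ πE) ≫ H.hom = 𝟙 _ := by rw [Category.assoc]; exact ha
  obtain ⟨C, jC, hd, hCt, hC, hker⟩ := exists_fibre Z (a ≫ πE) hξ
  obtain ⟨U, hU, hxU, -⟩ := exists_isAffineOpen_mem_and_subset (X := H.left) (x := (a ≫ πE) default) (U := ⊤) trivial
  have hξU : (⊤ : (Spec (CommRingCat.of k)).Opens) ≤ (a ≫ πE) ⁻¹ᵁ U := fun x _ => by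
    rw [Subsingleton.elim x default]; exact hxU
  obtain ⟨hle, -, -, -⟩ := fibre_sections Z (a ≫ πE) hξ C jC hC hU hξU
  obtain ⟨μ, hμ, hμ'⟩ := exists_fun Z hL πE OE qE hPE a rfl hξ C jC hCt hC hU hξU hle
  refine ⟨C, μ, hd, hμ, hker, fun σ => ?_⟩
  rw [van_secant Z π O1 qP πE OE qE h hh a hξU, ← hμ', fibRes_eval]

include hh hL hPE in
theorem point_eq_of_van (hsurj : ∀ C : Cl f, C.deg = d → Function.Surjective (FComplLib.pullTop C.t L))
    (a b : Spec (CommRingCat.of k) ⟶ PE) (hab : a ≫ πE = b ≫ πE) (ha : a ≫ πE ≫ H.hom = 𝟙 _)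
    (hv : ∀ σ, Van π O1 qP (a ≫ h) σ ↔ Van π O1 qP (b ≫ h) σ) : a = b := by
  have hξ : (a ≫ πE) ≫ H.hom = 𝟙 _ := by rw [Category.assoc]; exact ha
  obtain ⟨C, jC, hd, hCt, hC, -⟩ := exists_fibre Z (a ≫ πE) hξ
  obtain ⟨U, hU, hxU, -⟩ := exists_isAffineOpen_mem_and_subset (X := H.left) (x := (a ≫ πE) default) (U := ⊤) trivial
  have hξU : (⊤ : (Spec (CommRingCat.of k)).Opens) ≤ (a ≫ πE) ⁻¹ᵁ U := fun x _ => by
    rw [Subsingleton.elim x default]; exact hxU
  obtain ⟨hle, hsξ, -, -⟩ := fibre_sections Z (a ≫ πE) hξ C jC hC hU hξU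
  obtain ⟨μa, -, hμa⟩ := exists_fun Z hL πE OE qE hPE a rfl hξ C jC hCt hC hU hξU hle
  obtain ⟨μb, -, hμb⟩ := exists_fun Z hL πE OE qE hPE b hab.symm hξ C jC hCt hC hU hξU hle
  refine point_eq_of_ker πE OE qE hPE (isQCoh_taut Z hL) a b rfl hab.symm hU hξU hsξ fun y => ?_
  rw [← hμa, ← hμb]
  obtain ⟨σ, hσ⟩ := hsurj C hd (fibRes Z C jC hCt U hle y)
  rw [← hσ, ← fibRes_eval Z C jC hCt U hle σ, hμa, hμb, ← van_secant Z π O1 qP πE OE qE h hh a hξU,
    ← van_secant Z π O1 qP πE OE qE h hh b (hab ▸ hξU)]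
  exact hv σ

include hh hL hPE in
/-- Two points with the same image either agree or their image is spanned by fewer points. -/
theorem eq_or_lower [IsProper f] (n : ℕ) (hd : d = n + 1) (hU : HilbD.IsUniversal f d H Z)
    (hN : ∀ W : Cl f, W.deg ≤ 2 * n + 2 → Function.Surjective (FComplLib.pullTop W.t L))
    (a b : Spec (CommRingCat.of k) ⟶ PE) (ha : a ≫ πE ≫ H.hom = 𝟙 _) (hb : b ≫ πE ≫ H.hom = 𝟙 _)
    (hab : a ≫ h = b ≫ h) :
    a = b ∨ ∃ (E : Cl f) (μE : Γ((Scheme.Modules.pullback E.t).obj L, ⊤) →+ k), E.deg ≤ n ∧ IsFun E μE ∧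
      ∀ σ, μE (FComplLib.pullTop E.t L σ) = 0 ↔ Van π O1 qP (a ≫ h) σ := by
  obtain ⟨C, μC, hC, hμC, hkC, hvC⟩ := exists_data Z π O1 qP πE OE qE h hh hL hPE a ha
  obtain ⟨D, μD, hD, -, hkD, hvD⟩ := exists_data Z π O1 qP πE OE qE h hh hL hPE b hb
  rcases meet_or_iso hL n hN (hC.trans hd) (hD.trans hd) hμC (μD := μD)
    (fun σ => by rw [hvC, hvD, hab]) with ⟨i, hi, hiC⟩ | ⟨E, μE, hE, hμE, hμEσ⟩
  · left
    have hpull : HilbD.pull f (ptHom (a ≫ πE) (by rw [Category.assoc]; exact ha)) Z.1 =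
        HilbD.pull f (ptHom (b ≫ πE) (by rw [Category.assoc]; exact hb)) Z.1 := by
      rw [← hkC, ← hkD, ← hiC, Category.assoc, Scheme.Hom.ker_comp_of_isIso]
    have heq := (hU (pt k) ⟨_, HilbDLib.isFinLocFreeOfDeg_pull f (ptHom (a ≫ πE)
      (by rw [Category.assoc]; exact ha)) Z.1 Z.2⟩).unique rfl hpull.symm
    refine point_eq_of_van Z π O1 qP πE OE qE h hh hL hPE (fun W hW => hN W (by omega)) a b
      (congrArg CommaMorphism.left heq) ha fun σ => by rw [hab]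
  · exact Or.inr ⟨E, μE, hE, hμE, fun σ => by rw [hμEσ]; exact hvC σ⟩

variable (hP : KRR.IsProjBundle π ((Scheme.Modules.pushforward f).obj L) O1 qP)

include hP hL in
omit [IsSeparated f] in
theorem eq_of_van [QuasiCompact f] [QuasiSeparated f] {p q : Spec (CommRingCat.of k) ⟶ P} (hp : p ≫ π = 𝟙 _)
    (hq : q ≫ π = 𝟙 _) (hv : ∀ σ, Van π O1 qP p σ ↔ Van π O1 qP q σ) : p = q :=
  point_eq_of_ker π O1 qP hP (QCoh.isQCoh_pushforward f hL) p q hp hq (U := ⊤) (isAffineOpen_top _) le_top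
    (fun z => ⟨z, by simp [Scheme.Hom.appLE]⟩) hv

omit [IsSeparated f] in
theorem van_linSys (φ : X ⟶ P)
    (hφ : TautSh.IsMapOfQuot π ((Scheme.Modules.pushforward f).obj L) O1 qP f L (TautSh.linSysQuot f L) φ)
    (x : Spec (CommRingCat.of k) ⟶ X) (σ : Γ(L, ⊤)) :
    Van π O1 qP (x ≫ φ) σ ↔ FComplLib.pullTop x L σ = 0 := by
  rw [Van, qv_classify π O1 qP f L _ φ hφ x, linSys_pullTop]

omit [IsSeparated f] in
/-- Transfer of surjectivity along a closed immersion of finite subschemes. -/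
theorem surjective_pullTop_of_hom {A B : Scheme.{u}} [IsAffine A] [IsAffine B] (j : A ⟶ B) {tB : B ⟶ X} {tA : A ⟶ X}
    (hj : j ≫ tB = tA) [IsClosedImmersion j] (hqc : Coh.IsQCoh L) (hs : Function.Surjective (FComplLib.pullTop tB L)) :
    Function.Surjective (FComplLib.pullTop tA L) := by
  intro z
  obtain ⟨w, rfl⟩ := resSec_surjective L j hj ⊤ le_top hqc (isAffineOpen_top B)
    (by rw [appLE_top]; exact (IsClosedImmersion.isAffine_surjective_of_isAffine j).2) z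
  obtain ⟨σ, rfl⟩ := hs w
  exact ⟨σ, (resSec_pullTop L j hj σ).symm⟩

include hL in
omit [IsSeparated f] in
theorem surjective_pullTop_of_le [IsProper f] [IsAlgClosed k] [Infinite X] (N : ℕ)
    (hva : ∀ I : X.IdealSheafData, Mor2.IsFinLocFreeOfDeg N (I.subschemeι ≫ f) →
      Function.Surjective (TautSh.resSect I L))
    (C : Cl f) (hC : C.deg ≤ N) : Function.Surjective (FComplLib.pullTop C.t L) := by
  obtain ⟨D, j, hj, hD⟩ := C.exists_deg_eq (N - C.deg)
  have hDN : D.deg = N := by omega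
  let e : D.A ⟶ D.t.ker.subscheme :=
    IsClosedImmersion.lift D.t.ker.subschemeι D.t (Scheme.IdealSheafData.ker_subschemeι D.t.ker).le
  have he : e ≫ D.t.ker.subschemeι = D.t := IsClosedImmersion.lift_fac _ _ _
  haveI : IsIso e := IsClosedImmersion.isIso_of_ker_eq _ _ _ he (Scheme.IdealSheafData.ker_subschemeι D.t.ker).symm
  have hcomp : D.t.ker.subschemeι ≫ f = inv e ≫ D.t ≫ f := by rw [IsIso.eq_inv_comp, ← Category.assoc, he]
  have hdeg : Mor2.IsFinLocFreeOfDeg N (D.t.ker.subschemeι ≫ f) := by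
    obtain ⟨⟨h1, h2, h3⟩, h4⟩ := (isFinLocFreeOfDeg_iff (D.t ≫ f) N).2 hDN
    rw [hcomp]
    exact ⟨⟨inferInstance, inferInstance, inferInstance⟩, fun y => by
      rw [Scheme.Hom.finrank_comp_left_of_isIso]; exact h4 y⟩
  haveI : IsAffine D.t.ker.subscheme := IsAffine.of_isIso (inv e)
  haveI := Cl.isClosedImmersion_hom j hj
  exact surjective_pullTop_of_hom j hj hL (surjective_pullTop_of_hom e he hL (hva _ hdeg))

omit [IsSeparated f] in
theorem infinite_of_two_le [IsProper f] [IsIntegral X] [IsAlgClosed k] (C : Cl f) (hC : 2 ≤ C.deg) : Infinite X := by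
  by_contra hX
  haveI : Finite X := not_infinite_iff_finite.1 hX
  haveI : LocallyQuasiFinite f := LocallyQuasiFinite.of_finite_preimage_singleton _ fun y => Set.toFinite _
  haveI : IsFinite f := IsFinite.of_isProper_of_locallyQuasiFinite _
  haveI : IsAffine X := isAffine_of_isAffineHom f
  haveI : IsFinite (𝟙 X ≫ f) := by rw [Category.id_comp]; infer_instance
  let D : Cl f := { A := X, t := 𝟙 X }
  have h1 := (Cl.deg_le_of_hom (C := C) (D := D) C.t (Category.comp_id _)).1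
  letI := (cst (D.t ≫ f) (⊤ : X.Opens)).toAlgebra
  haveI : Module.Finite k Γ(X, ⊤) := finite_cst (D.t ≫ f)
  haveI : Algebra.IsIntegral k Γ(X, ⊤) := Algebra.IsIntegral.of_finite k _
  have h2 : D.deg = 1 := by
    let e := AlgEquiv.ofBijective (Algebra.ofId k Γ(X, ⊤)) IsAlgClosed.algebraMap_bijective_of_isIntegral
    exact e.toLinearEquiv.finrank_eq.symm.trans (Module.finrank_self k)
  omega

end Groth.Agent.TautSec
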