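import Groth.Agent.TautSec.Cluster

/-!
# Restriction of sections to finite subschemes
-/

set_option autoImplicit false
set_option linter.style.haveILetI false
set_option backward.isDefEq.respectTransparency false
set_option backward.isDefEq.respectTransparency.types false

universe u

open CategoryTheory CategoryTheory.Limits AlgebraicGeometry TopologicalSpace

namespace Groth.Agent.TautSec

variable {X A B : Scheme.{u}} {k : Type u} [Field k] (L : X.Modules) (j : A ⟶ B) {tB : B ⟶ X} {tA : A ⟶ X}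
  (h : j ≫ tB = tA) (U : B.Opens) (hle : (⊤ : A.Opens) ≤ j ⁻¹ᵁ U)

/-- Restriction of sections along a morphism over `X`. -/
noncomputable def resSec : Γ((Scheme.Modules.pullback tB).obj L, U) →+ Γ((Scheme.Modules.pullback tA).obj L, ⊤) :=
  AddMonoidHom.mk' (fun x => ((Scheme.Modules.pullbackCongr h).hom.app L).app ⊤
    (((Scheme.Modules.pullbackComp j tB).hom.app L).app ⊤ (QCoh.pullSec j _ hle x))) fun a b => by
    simp only [QCoh.pullSec_add, map_add]

theorem resSec_smul (r : Γ(B, U)) (x : Γ((Scheme.Modules.pullback tB).obj L, U)) :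
    resSec L j h U hle (r • x) = j.appLE U ⊤ hle r • resSec L j h U hle x := by
  show ((Scheme.Modules.pullbackCongr h).hom.app L).app ⊤ (((Scheme.Modules.pullbackComp j tB).hom.app L).app ⊤
    (QCoh.pullSec j _ hle (r • x))) = _
  rw [QCoh.pullSec_smul, Scheme.Modules.Hom.app_smul, Scheme.Modules.Hom.app_smul]
  rfl

theorem resSec_pullSec (σ : Γ(L, ⊤)) :
    resSec L j h U hle (QCoh.pullSec tB L (show U ≤ tB ⁻¹ᵁ ⊤ from le_top) σ) = FComplLib.pullTop tA L σ := by
  subst h
  show ((Scheme.Modules.pullbackCongr (rfl : j ≫ tB = j ≫ tB)).hom.app L).app ⊤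
    (((Scheme.Modules.pullbackComp j tB).hom.app L).app ⊤ (QCoh.pullSec j _ hle _)) = _
  rw [ExistEasy.pullSec_comp j tB L (V := ⊤) _ hle σ, ExistEasy.pullSec_congr rfl L _ σ]
  exact pullSec_top (j ≫ tB) L σ

theorem resSec_pullTop (σ : Γ(L, ⊤)) :
    resSec L j h ⊤ le_top (FComplLib.pullTop tB L σ) = FComplLib.pullTop tA L σ := by
  rw [← pullSec_top tB]
  exact resSec_pullSec L j h ⊤ le_top σ

theorem resSec_injPart (x : Γ((Scheme.Modules.pullback tB).obj L, U)) (hx : resSec L j h U hle x = 0) :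
    QCoh.pullSec j ((Scheme.Modules.pullback tB).obj L) hle x = 0 := by
  let i : (Scheme.Modules.pullback j).obj ((Scheme.Modules.pullback tB).obj L) ≅ (Scheme.Modules.pullback tA).obj L :=
    (Scheme.Modules.pullbackComp j tB).app L ≪≫ (Scheme.Modules.pullbackCongr h).app L
  have h2 := congrArg (fun φ => Scheme.Modules.Hom.app φ ⊤ (QCoh.pullSec j _ hle x)) i.hom_inv_id
  refine h2.symm.trans ?_
  show i.inv.app ⊤ (resSec L j h U hle x) = 0
  rw [hx, map_zero]

variable (hL : Coh.IsQCoh L) (hU : IsAffineOpen U) [IsAffine A] (hs : Function.Surjective (j.appLE U ⊤ hle))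

include hL hU hs in
theorem resSec_surjective : Function.Surjective (resSec L j h U hle) := by
  intro z
  let i : (Scheme.Modules.pullback j).obj ((Scheme.Modules.pullback tB).obj L) ≅ (Scheme.Modules.pullback tA).obj L :=
    (Scheme.Modules.pullbackComp j tB).app L ≪≫ (Scheme.Modules.pullbackCongr h).app L
  obtain ⟨x, hx⟩ := (pullSec_closed j (QCoh.isQCoh_pullback tB hL) hU (isAffineOpen_top A) hle hs).1 (i.inv.app ⊤ z)
  refine ⟨x, ?_⟩
  show i.hom.app ⊤ (QCoh.pullSec j _ hle x) = z
  rw [hx]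
  exact congrArg (fun φ => Scheme.Modules.Hom.app φ ⊤ z) i.inv_hom_id

include hL hU hs in
/-- A functional killed by the kernel factors through the restriction. -/
theorem resSec_factor (μ : Γ((Scheme.Modules.pullback tB).obj L, U) →+ k)
    (hμ : ∀ r ∈ RingHom.ker (j.appLE U ⊤ hle).hom, ∀ x, μ (r • x) = 0) (t : B ⟶ Spec (CommRingCat.of k))
    (hμc : ∀ (c : k) x, μ (cst t U c • x) = c * μ x) :
    ∃ μ' : Γ((Scheme.Modules.pullback tA).obj L, ⊤) →+ k, (∀ x, μ' (resSec L j h U hle x) = μ x) ∧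
      ∀ (c : k) x, μ' (cst (j ≫ t) ⊤ c • x) = c * μ' x := by
  have h0 : ∀ x, resSec L j h U hle x = 0 → μ x = 0 := fun x hx => by
    refine Submodule.smul_induction_on ((pullSec_closed j (QCoh.isQCoh_pullback tB hL) hU (isAffineOpen_top A) hle hs).2 x
      (resSec_injPart L j h U hle x hx)) (fun r hr y _ => hμ r hr y) fun a b ha hb => ?_
    rw [map_add, ha, hb, add_zero]
  have hsurj := resSec_surjective L j h U hle hL hU hs
  let μ' : Γ((Scheme.Modules.pullback tA).obj L, ⊤) →+ k :=
    AddMonoidHom.liftOfSurjective (resSec L j h U hle) hsurj ⟨μ, fun x hx => h0 x hx⟩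
  have hμ' : ∀ x, μ' (resSec L j h U hle x) = μ x := fun x =>
    AddMonoidHom.liftOfRightInverse_comp_apply (resSec L j h U hle) _ _ _ x
  refine ⟨μ', hμ', fun c z => ?_⟩
  obtain ⟨x, rfl⟩ := hsurj z
  rw [← cst_comp j t hle, ← resSec_smul, hμ', hμc, hμ']

end Groth.Agent.TautSec
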