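import Groth.Agent.TautSec.Res
import Groth.Agent.TautSec.Eval
import Groth.Agent.TautSec.Fibre

/-!
# Injectivity of secant maps on rational points
-/

set_option autoImplicit false
set_option linter.style.haveILetI false
set_option backward.isDefEq.respectTransparency false
set_option backward.isDefEq.respectTransparency.types false

universe u

open CategoryTheory CategoryTheory.Limits AlgebraicGeometry TopologicalSpace

namespace Groth.Agent.TautSec

variable {X : Scheme.{u}} {k : Type u} [Field k] {f : X ⟶ Spec (CommRingCat.of k)} {L : X.Modules}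

/-- A nonzero functional on the sections over a finite subscheme. -/
def IsFun (C : Cl f) (μ : Γ((Scheme.Modules.pullback C.t).obj L, ⊤) →+ k) : Prop :=
  (∀ (c : k) x, μ (cst (C.t ≫ f) ⊤ c • x) = c * μ x) ∧ ∃ x, μ x ≠ 0

theorem isFun_res {C W : Cl f} (j : C.A ⟶ W.A) (hj : j ≫ W.t = C.t) (hL : Coh.IsQCoh L)
    {μ : Γ((Scheme.Modules.pullback C.t).obj L, ⊤) →+ k} (hμ : IsFun C μ) :
    IsFun W (μ.comp (resSec L j hj ⊤ le_top)) := by
  refine ⟨fun c x => ?_, ?_⟩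
  · show μ (resSec L j hj ⊤ le_top (cst (W.t ≫ f) ⊤ c • x)) = _
    rw [resSec_smul, cst_comp, show j ≫ W.t ≫ f = C.t ≫ f by rw [← Category.assoc, hj]]
    exact hμ.1 c _
  · obtain ⟨x, hx⟩ := hμ.2
    obtain ⟨y, rfl⟩ := resSec_surjective L j hj ⊤ le_top hL (isAffineOpen_top W.A) (Cl.surjective_hom j hj) x
    exact ⟨y, hx⟩

theorem deg_ne_zero {C : Cl f} {μ : Γ((Scheme.Modules.pullback C.t).obj L, ⊤) →+ k} (hμ : IsFun C μ) :
    C.deg ≠ 0 := by
  intro h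
  letI := (cst (C.t ≫ f) (⊤ : C.A.Opens)).toAlgebra
  haveI : Module.Finite k Γ(C.A, ⊤) := finite_cst (C.t ≫ f)
  haveI : Subsingleton Γ(C.A, ⊤) := Module.finrank_zero_iff.1 h
  obtain ⟨x, hx⟩ := hμ.2
  refine hx ?_
  rw [← one_smul Γ(C.A, ⊤) x, Subsingleton.elim (1 : Γ(C.A, ⊤)) 0, zero_smul, map_zero]

/-- Two subschemes spanning the same hyperplane. -/
theorem meet_or_iso [IsProper f] (hL : Coh.IsQCoh L) (n : ℕ)
    (hN : ∀ W : Cl f, W.deg ≤ 2 * n + 2 → Function.Surjective (FComplLib.pullTop W.t L))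
    {C D : Cl f} (hC : C.deg = n + 1) (hD : D.deg = n + 1)
    {μC : Γ((Scheme.Modules.pullback C.t).obj L, ⊤) →+ k} (hμC : IsFun C μC)
    {μD : Γ((Scheme.Modules.pullback D.t).obj L, ⊤) →+ k}
    (heq : ∀ σ, μC (FComplLib.pullTop C.t L σ) = 0 ↔ μD (FComplLib.pullTop D.t L σ) = 0) :
    (∃ i : C.A ⟶ D.A, IsIso i ∧ i ≫ D.t = C.t) ∨
      ∃ (E : Cl f) (μE : Γ((Scheme.Modules.pullback E.t).obj L, ⊤) →+ k), E.deg ≤ n ∧ IsFun E μE ∧
        ∀ σ, μE (FComplLib.pullTop E.t L σ) = μC (FComplLib.pullTop C.t L σ) := by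
  obtain ⟨W, jC, jD, hjC, hjD, -, hdeg, -⟩ := Cl.exists_union C D
  obtain ⟨E, jE, hjE, hkE⟩ := Cl.exists_meet (C := C) (D := D) jC jD
  have hsW := hN W (by omega)
  let ν := μC.comp (resSec L jC hjC ⊤ le_top)
  have hν : IsFun W ν := isFun_res jC hjC hL hμC
  have hνD : ∀ x, ν x = 0 ↔ μD (resSec L jD hjD ⊤ le_top x) = 0 := fun x => by
    obtain ⟨σ, rfl⟩ := hsW x
    show μC _ = 0 ↔ _
    rw [resSec_pullTop, resSec_pullTop]
    exact heq σ
  have hker : ∀ r ∈ RingHom.ker (jE.appLE ⊤ ⊤ le_top).hom, ∀ x, ν (r • x) = 0 := by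
    intro r hr x
    rw [hkE] at hr
    obtain ⟨a, ha, b, hb, rfl⟩ := Submodule.mem_sup.1 hr
    rw [add_smul, map_add]
    have h1 : ν (a • x) = 0 := by
      show μC _ = 0
      rw [resSec_smul, show jC.appLE ⊤ ⊤ le_top a = 0 from ha, zero_smul, map_zero]
    have h2 : ν (b • x) = 0 := by
      rw [hνD, resSec_smul, show jD.appLE ⊤ ⊤ le_top b = 0 from hb, zero_smul, map_zero]
    rw [h1, h2, add_zero]
  obtain ⟨μE, hμE, hμEc⟩ := resSec_factor L jE hjE ⊤ le_top hL (isAffineOpen_top W.A) (Cl.surjective_hom jE hjE) ν hker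
    (W.t ≫ f) hν.1
  have hkle : ∀ (G : Cl f) (jG : G.A ⟶ W.A) (hjG : jG ≫ W.t = G.t),
      RingHom.ker (jG.appLE ⊤ ⊤ le_top).hom ≤ RingHom.ker (jE.appLE ⊤ ⊤ le_top).hom →
      ∃ l : E.A ⟶ G.A, l ≫ G.t = E.t := by
    intro G jG hjG hle
    haveI := Cl.isClosedImmersion_hom jG hjG
    haveI := Cl.isClosedImmersion_hom jE hjE
    have hk : jG.ker ≤ jE.ker := Scheme.IdealSheafData.le_of_isAffine (by
      rw [Scheme.Hom.ker_apply, Scheme.Hom.ker_apply]
      intro r hr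
      have := hle (x := r) (by rw [RingHom.mem_ker, appLE_top]; exact hr)
      rwa [RingHom.mem_ker, appLE_top] at this)
    exact ⟨IsClosedImmersion.lift jG jE hk, by rw [← hjG, IsClosedImmersion.lift_fac_assoc, hjE]⟩
  obtain ⟨l, hl⟩ := hkle C jC hjC (by rw [hkE]; exact le_sup_left)
  obtain ⟨l', hl'⟩ := hkle D jD hjD (by rw [hkE]; exact le_sup_right)
  have h1 := Cl.deg_le_of_hom l hl
  by_cases hEC : E.deg = C.deg
  · left
    haveI := h1.2 hEC
    haveI := (Cl.deg_le_of_hom l' hl').2 (by omega)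
    exact ⟨inv l ≫ l', inferInstance, by rw [Category.assoc, hl', IsIso.inv_comp_eq, hl]⟩
  · right
    refine ⟨E, μE, by have := h1.1; omega, ⟨fun c x => ?_, ?_⟩, fun σ => ?_⟩
    · have := hμEc c x
      rwa [← Category.assoc, hjE] at this
    · obtain ⟨x, hx⟩ := hν.2
      exact ⟨resSec L jE hjE ⊤ le_top x, by rwa [hμE]⟩
    · rw [← resSec_pullTop L jE hjE, hμE]
      show μC _ = _
      rw [resSec_pullTop]

variable {H : Over (Spec (CommRingCat.of k))} {d : ℕ} (Z : HilbD.Obj f d H)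

/-- Sections of the tautological sheaf restricted to a fibre. -/
noncomputable abbrev fibRes (C : Cl f) (jC : C.A ⟶ TautSh.fam f H Z.1) (hCt : jC ≫ TautSh.famToX f H Z.1 = C.t)
    (U : H.left.Opens) (hle : (⊤ : C.A.Opens) ≤ jC ⁻¹ᵁ (TautSh.famToH f H Z.1 ⁻¹ᵁ U)) :
    Γ(TautSh.taut f H Z.1 L, U) →+ Γ((Scheme.Modules.pullback C.t).obj L, ⊤) :=
  resSec L jC hCt (TautSh.famToH f H Z.1 ⁻¹ᵁ U) hle

theorem fibRes_eval (C : Cl f) (jC : C.A ⟶ TautSh.fam f H Z.1) (hCt : jC ≫ TautSh.famToX f H Z.1 = C.t)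
    (U : H.left.Opens) (hle : (⊤ : C.A.Opens) ≤ jC ⁻¹ᵁ (TautSh.famToH f H Z.1 ⁻¹ᵁ U)) (σ : Γ(L, ⊤)) :
    fibRes Z C jC hCt U hle ((TautSh.taut f H Z.1 L).presheaf.map (homOfLE le_top).op
      (show Γ(TautSh.taut f H Z.1 L, ⊤) from FComplLib.pullTop (TautSh.famToX f H Z.1) L σ)) =
      FComplLib.pullTop C.t L σ := by
  refine Eq.trans ?_ (resSec_pullSec L jC hCt _ hle σ)
  refine congrArg (resSec L jC hCt _ hle) ?_
  rw [← pullSec_top]
  exact QCoh.map_map (M := (Scheme.Modules.pullback (TautSh.famToX f H Z.1)).obj L) _ _ _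

theorem isQCoh_taut (hL : Coh.IsQCoh L) : Coh.IsQCoh (TautSh.taut f H Z.1 L) := by
  haveI : IsFinite (TautSh.famToH f H Z.1) := Z.2.1.1
  exact QCoh.isQCoh_pushforward (TautSh.famToH f H Z.1)
    (M := (Scheme.Modules.pullback (TautSh.famToX f H Z.1)).obj L) (QCoh.isQCoh_pullback (TautSh.famToX f H Z.1) hL)

/-- The functional of a rational point of the secant bundle. -/
theorem exists_fun (hL : Coh.IsQCoh L) {PE : Scheme.{u}} (πE : PE ⟶ H.left) (OE : PE.Modules)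
    (qE : (Scheme.Modules.pullback πE).obj (TautSh.taut f H Z.1 L) ⟶ OE)
    (hPE : KRR.IsProjBundle πE (TautSh.taut f H Z.1 L) OE qE)
    (a : Spec (CommRingCat.of k) ⟶ PE) {ξ : Spec (CommRingCat.of k) ⟶ H.left} (ha : a ≫ πE = ξ)
    (hξ : ξ ≫ H.hom = 𝟙 _) (C : Cl f) (jC : C.A ⟶ TautSh.fam f H Z.1)
    (hCt : jC ≫ TautSh.famToX f H Z.1 = C.t) (hC : IsPullback jC (C.t ≫ f) (TautSh.famToH f H Z.1) ξ)
    {U : H.left.Opens} (hU : IsAffineOpen U) (hξU : (⊤ : (Spec (CommRingCat.of k)).Opens) ≤ ξ ⁻¹ᵁ U)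
    (hle : (⊤ : C.A.Opens) ≤ jC ⁻¹ᵁ (TautSh.famToH f H Z.1 ⁻¹ᵁ U)) :
    ∃ μ : Γ((Scheme.Modules.pullback C.t).obj L, ⊤) →+ k, IsFun C μ ∧
      ∀ y, μ (fibRes Z C jC hCt U hle y) = 0 ↔ qv πE OE qE a (U := U) (ha.symm ▸ hξU) y = 0 := by
  subst ha
  let p := TautSh.famToH f H Z.1
  haveI : IsFinite p := Z.2.1.1
  let T := Spec (CommRingCat.of k)
  obtain ⟨_, hsξ, hsC, hkC⟩ := fibre_sections Z (a ≫ πE) hξ C jC hC hU hξU
  have hline := line_pullback a hPE.invertible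
  obtain ⟨U₀, hU₀, t, ht⟩ := InvEnd.exists_frame_inv (invertible_of_line hline) default
  have hU₀' : U₀ = ⊤ := top_le_iff.1 fun x _ => by rwa [Subsingleton.elim x default]
  subst hU₀'
  let φ : Γ(T, ⊤) ≃+* k := (Scheme.ΓSpecIso (CommRingCat.of k)).commRingCatIsoToRingEquiv
  let t' : Γ((Scheme.Modules.pullback a).obj OE, ⊤) :=
    ((Scheme.Modules.pullback a).obj OE).presheaf.map (homOfLE (le_refl (⊤ : T.Opens))).op t
  let co : Γ((Scheme.Modules.pullback a).obj OE, ⊤) ≃+ Γ(T, ⊤) :=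
    (AddEquiv.ofBijective (AddMonoidHom.mk' (fun c : Γ(T, ⊤) => c • t') fun x y => add_smul x y t') (ht ⊤ le_rfl)).symm
  have hco : ∀ (r : Γ(T, ⊤)) z, co (r • z) = r * co z := fun r z => co.symm.injective (by
    rw [co.symm_apply_apply]
    show r • z = (r * co z) • t'
    rw [mul_smul]
    exact congrArg (r • ·) (co.symm_apply_apply z).symm)
  have hqv_smul : ∀ (r : Γ(H.left, U)) x, qv πE OE qE a hξU (r • x) = (a ≫ πE).appLE U ⊤ hξU r • qv πE OE qE a hξU x := by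
    intro r x
    show QCoh.pullSec a OE _ (qE.app (πE ⁻¹ᵁ U) (QCoh.pullSec πE _ le_rfl (r • x))) = _
    rw [QCoh.pullSec_smul, Scheme.Modules.Hom.app_smul, QCoh.pullSec_smul, ← CommRingCat.comp_apply,
      Scheme.Hom.appLE_comp_appLE]
    rfl
  have hqv_add : ∀ x y, qv πE OE qE a hξU (x + y) = qv πE OE qE a hξU x + qv πE OE qE a hξU y := fun x y => by
    simp only [qv, QCoh.pullSec_add, map_add]
  let ν : Γ(TautSh.taut f H Z.1 L, U) →+ k :=
    φ.toAddMonoidHom.comp (co.toAddMonoidHom.comp (AddMonoidHom.mk' _ hqv_add))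
  have hν0 : ∀ y, ν y = 0 ↔ qv πE OE qE a hξU y = 0 := fun y =>
    (map_eq_zero_iff φ φ.injective).trans (map_eq_zero_iff co co.injective)
  have hν1 : ∀ (r : Γ(H.left, U)) y, ν (r • y) = φ ((a ≫ πE).appLE U ⊤ hξU r) * ν y := fun r y => by
    show φ (co (qv πE OE qE a hξU (r • y))) = _
    rw [hqv_smul, hco, map_mul]
    rfl
  have hνc : ∀ (c : k) (x : Γ(TautSh.taut f H Z.1 L, U)),
      ν (show Γ(TautSh.taut f H Z.1 L, U) from cst (p ≫ H.hom) (p ⁻¹ᵁ U) c •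
        (show Γ((Scheme.Modules.pullback (TautSh.famToX f H Z.1)).obj L, p ⁻¹ᵁ U) from x)) = c * ν x := fun c x => by
    rw [← cst_comp p H.hom (le_refl (p ⁻¹ᵁ U)), ← Scheme.Hom.app_eq_appLE]
    refine (hν1 (cst H.hom U c) x).trans ?_
    congr 1
    rw [cst_comp, hξ]
    refine (congrArg φ (show cst (𝟙 T) (⊤ : T.Opens) c = φ.symm c by
      show ((Scheme.Hom.appLE (𝟙 T) ⊤ ⊤ _).hom _) = _
      simp [Scheme.Hom.appLE]
      rfl)).trans (φ.apply_symm_apply c)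
  have hνk : ∀ r ∈ RingHom.ker (jC.appLE (p ⁻¹ᵁ U) ⊤ hle).hom,
      ∀ x : Γ((Scheme.Modules.pullback (TautSh.famToX f H Z.1)).obj L, p ⁻¹ᵁ U),
        ν (show Γ(TautSh.taut f H Z.1 L, U) from r • x) = 0 := by
    intro r hr
    have hr' := hkC hr
    clear hr
    induction hr' using Submodule.span_induction with
    | mem r hr =>
      obtain ⟨r, hr', rfl⟩ := hr
      intro x
      refine (hν1 r (show Γ(TautSh.taut f H Z.1 L, U) from x)).trans ?_
      rw [show (a ≫ πE).appLE U ⊤ hξU r = 0 from hr', map_zero, zero_mul]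
    | zero => intro x; rw [zero_smul]; exact map_zero ν
    | add r s _ _ h1 h2 =>
      intro x
      rw [add_smul]
      exact (map_add ν _ _).trans (by rw [h1 x, h2 x, add_zero])
    | smul s r _ h1 =>
      intro x
      rw [smul_eq_mul, mul_comm, mul_smul]
      exact h1 (s • x)
  obtain ⟨μ, hμ, hμc⟩ := resSec_factor L jC hCt (p ⁻¹ᵁ U) hle hL (hU.preimage p) hsC
    (show Γ((Scheme.Modules.pullback (TautSh.famToX f H Z.1)).obj L, p ⁻¹ᵁ U) →+ k from ν) hνk (p ≫ H.hom) hνc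
  have heq : jC ≫ p ≫ H.hom = C.t ≫ f := by
    rw [← Category.assoc, hC.w, Category.assoc (C.t ≫ f), hξ, Category.comp_id]
  rw [heq] at hμc
  refine ⟨μ, ⟨hμc, ?_⟩, fun y => ((Eq.congr_left (hμ y)).trans (hν0 y))⟩
  by_contra hall
  push Not at hall
  have hzero : ∀ y, qv πE OE qE a hξU y = 0 := fun y => (hν0 y).1 ((hμ y).symm.trans (hall _))
  haveI := hPE.epi
  haveI := epi_quotAt πE OE qE a
  have hgen : Function.Surjective (QCoh.pullSec (a ≫ πE) (TautSh.taut f H Z.1 L) hξU) :=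
    ExistEasy.surjective_pullSec _ (isQCoh_taut Z hL) (isAffineOpen_top T) hU hξU fun c' => by
      obtain ⟨c, rfl⟩ := hsξ c'
      exact ⟨c, fun y => rfl⟩
  obtain ⟨z, hz⟩ := QCoh.app_surjective_of_epi (QCoh.isQCoh_pullback (a ≫ πE) (isQCoh_taut Z hL)) (isQCoh_line hline)
    (quotAt πE OE qE a) (isAffineOpen_top T) (co.symm 1)
  obtain ⟨y, rfl⟩ := hgen z
  rw [quotAt_pullSec, hzero y] at hz
  exact one_ne_zero ((map_eq_zero_iff co.symm co.symm.injective).1 hz.symm)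

end Groth.Agent.TautSec
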